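import Cfsg.Agent.TT95.Uni22.Frame

/-!
Type M(22): a normalised frame over a given local labelling (the proof of `Uni22.exists_std`, keeping the
labelling and the exponent of the diagonal automorphism).
-/

set_option autoImplicit false
set_option linter.unusedSectionVars false

namespace Cfsg.Agent.TT95.Out22

open Cfsg.Agent.TT95.U6 Cfsg.Agent.TT95.Uni22

variable {G : Type*} [Group G] [Finite G] {D : Set G} (hC : Cfg22 D)

include hC

theorem exists_std_of {a : G} (ha : a ∈ D) {γ : ℕ → G} (hγ : IsLocal D a γ) :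
    ∃ d k, k < 3 ∧ Std D a d (fun p => γ (psiK k p)) := by
  classical
  obtain ⟨d, hd, -, d1, d4, d16⟩ := Pre22.exists_far_witness (pre22 hC) ha hγ
  obtain ⟨k, w, hk3, hw, hg0⟩ := exists_leaf hC ha hγ hd d1 d4 d16
  set g := (w.map γ).prod with hgdef
  have hga : Commute g a := by
    rw [hgdef]
    refine Commute.list_prod_left _ _ ?_
    intro u hu
    obtain ⟨p, hp, rfl⟩ := List.mem_map.1 hu
    exact (hγ.mem p (hw p hp)).2.2.symm
  set d' := g⁻¹ * d * g with hd'
  have hd'far : d' ∈ far D a := by
    refine ⟨by simpa [hd'] using conj_mem hC.tt g⁻¹ hd.1, fun hc => hd.2 ?_⟩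
    have h := (Commute.conj_iff g).2 hc
    rwa [hd', show g * (g⁻¹ * d * g) * g⁻¹ = d by group, hga.eq, mul_inv_cancel_right] at h
  set δ : ℕ → G := fun p => γ (psiK k p) with hδ
  have hpsi : ∀ p, isPt p = true → isPt (psiK k p) = true := fun p hp => (psiK_spec hC hp).1
  have hinj : ∀ p q, isPt p = true → isPt q = true → psiK k p = psiK k q → p = q := by
    intro p q hp hq e
    have h3 : ∀ r, isPt r = true → psi (psi (psi r)) = r := fun r hr => by
      have := allP_iff.1 psi_check r (mem_pts.2 hr)
      rw [Bool.and_eq_true] at this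
      exact Nat.eq_of_beq_eq_true this.2
    match k with
    | 0 => exact e
    | 1 =>
      have e' : psi p = psi q := e
      rw [← h3 p hp, ← h3 q hq, e']
    | j + 2 =>
      have e' : psi (psi p) = psi (psi q) := e
      rw [← h3 p hp, ← h3 q hq, e']
  have hconj : ∀ e ∈ gX, ∀ p, isPt p = true → psiK k (tv e p) = tv (psiK k e) (psiK k p) := by
    intro e he p hp
    have h := List.all_eq_true.1 (allP_iff.1 psi_conj_check p (mem_pts.2 hp)) e he
    rw [Bool.and_eq_true] at h
    match k with
    | 0 => rfl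
    | 1 => exact Nat.eq_of_beq_eq_true h.1
    | j + 2 => exact Nat.eq_of_beq_eq_true h.2
  have hgen0 : ∀ p ∈ g0, isPt p = true ∧ Commute d' (δ p) := fun p hp => by
    have hp' := List.all_eq_true.1 s0_check.2.2.1 p hp
    refine ⟨hp', ?_⟩
    have h := (Commute.conj_iff g⁻¹).2 (hg0 p hp)
    rw [← (Pre22.fold_conj (pre22 hC) hγ w hw (hpsi p hp')).1, inv_inv,
      show g⁻¹ * ((w.map γ).prod * γ (psiK k p) * (w.map γ).prod⁻¹) * g = γ (psiK k p) by rw [hgdef]; group] at h
    exact h
  have hs0 : ∀ p ∈ s0, isPt p = true ∧ Commute d' (δ p) := by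
    obtain ⟨hder, hok, -⟩ := s0_check
    have key : ∀ (L : List (ℕ × ℕ)) (l : List ℕ), deriveOK L l = true → derive L l = s0 →
        (∀ ij ∈ L, ij ∈ g0Der) → (∀ p ∈ l, isPt p = true ∧ Commute d' (δ p)) →
        ∀ p ∈ derive L l, isPt p = true ∧ Commute d' (δ p) := by
      intro L
      induction L with
      | nil => exact fun l _ _ _ hl => hl
      | cons ij L ih =>
        obtain ⟨i, j⟩ := ij
        intro l hok hfin hsub hl
        simp only [deriveOK, Bool.and_eq_true, Nat.blt_eq] at hok
        obtain ⟨⟨⟨hi, hj⟩, -⟩, hrest⟩ := hok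
        obtain ⟨p1, c1⟩ := hl (l.getD i 0) (by rw [List.getD_eq_getElem _ _ hi]; exact List.getElem_mem hi)
        obtain ⟨p2, c2⟩ := hl (l.getD j 0) (by rw [List.getD_eq_getElem _ _ hj]; exact List.getElem_mem hj)
        refine ih _ hrest hfin (fun x hx => hsub x (List.mem_cons_of_mem _ hx)) fun p hp => ?_
        rcases List.mem_append.1 hp with hp | hp
        · exact hl p hp
        · obtain rfl := List.mem_singleton.1 hp
          have hext : ∀ (L : List (ℕ × ℕ)) (l : List ℕ) t, t < l.length → (derive L l).getD t 0 = l.getD t 0 := by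
            intro L
            induction L with
            | nil => exact fun l t _ => rfl
            | cons ij L ih2 =>
              intro l t ht
              rw [derive, ih2 _ t (by simp; omega), List.getD_append _ _ _ _ ht]
          have e1' : s0.getD i 0 = l.getD i 0 := by rw [← hfin]; exact hext ((i, j) :: L) l i hi
          have e2' : s0.getD j 0 = l.getD j 0 := by rw [← hfin]; exact hext ((i, j) :: L) l j hj
          have hpc := List.all_eq_true.1 s0_psi_check _ (hsub _ List.mem_cons_self)
          simp only [e1', e2', Bool.and_eq_true] at hpc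
          refine ⟨hγ.isPt_tv _ _ p1 p2, ?_⟩
          have hee : psiK k (tv (l.getD i 0) (l.getD j 0)) = tv (psiK k (l.getD i 0)) (psiK k (l.getD j 0)) := by
            match k with
            | 0 => rfl
            | 1 => exact Nat.eq_of_beq_eq_true hpc.1
            | m + 2 => exact Nat.eq_of_beq_eq_true hpc.2
          show Commute d' (γ (psiK k _))
          rw [hee, ← hγ.conj _ _ (hpsi _ p1) (hpsi _ p2)]
          exact (c1.mul_right c2).mul_right c1.inv_right
    intro p hp
    exact key g0Der g0 hok hder (fun _ h => h) hgen0 p (hder.symm ▸ hp)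
  refine ⟨d', k, hk3, hC.tt, ha, fun p hp => hγ.mem _ (hpsi p hp), fun x hx => ?_, hd'far, hγ.isPt_tv,
    fun e he p hp => ?_, fun e he f hf => ?_, fun p hp => ⟨fun hc => ?_, fun hc => ?_⟩, ?_⟩
  · obtain ⟨p, hp, rfl⟩ := hγ.surj x hx
    have h3 := allP_iff.1 psi_check p (mem_pts.2 hp)
    simp only [Bool.and_eq_true] at h3
    have h3' := allP_iff.1 psi_check (psi p) (mem_pts.2 h3.1)
    simp only [Bool.and_eq_true] at h3'
    match k with
    | 0 => exact ⟨p, hp, rfl⟩
    | 1 => exact ⟨psi (psi p), h3'.1, congrArg γ (Nat.eq_of_beq_eq_true h3.2)⟩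
    | m + 2 => exact ⟨psi p, h3.1, congrArg γ (Nat.eq_of_beq_eq_true h3.2)⟩
  · show γ _ * γ _ * (γ _)⁻¹ = γ _
    rw [hγ.conj _ _ (hpsi e (List.all_eq_true.1 gX_pts e he)) (hpsi p hp), hconj e he p hp]
  · have pe := List.all_eq_true.1 gX_pts e he
    have pf := List.all_eq_true.1 gX_pts f hf
    show Commute (γ _) (γ _) ↔ _
    rw [hγ.comm _ _ (hpsi e pe) (hpsi f pf)]
    have h := List.all_eq_true.1 (List.all_eq_true.1 psi_orth_check e he) f hf
    simp only [Bool.and_eq_true, beq_iff_eq] at h
    match k with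
    | 0 => rfl
    | 1 => exact iff_of_eq (congrArg (· = true) h.1)
    | m + 2 => exact iff_of_eq (congrArg (· = true) h.2)
  · by_contra hn
    have hnd : s0.Nodup := (nodup_of_distinctOK s0_check.2.2.2.1).1
    have hsub : (↑((p :: s0).toFinset.image δ) : Set G) ⊆ {x | x ∈ nb D a ∧ Commute d' x} := by
      intro x hx
      simp only [Finset.coe_image, List.coe_toFinset, Set.mem_image, Set.mem_setOf_eq] at hx
      obtain ⟨q, hq, rfl⟩ := hx
      rcases List.mem_cons.1 hq with rfl | hq
      · exact ⟨hγ.mem _ (hpsi _ hp), hc⟩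
      · exact ⟨hγ.mem _ (hpsi _ (hs0 q hq).1), (hs0 q hq).2⟩
    have hle := Set.ncard_le_ncard hsub (Set.toFinite _)
    have hps : ∀ q ∈ p :: s0, isPt q = true := fun q hq => by
      rcases List.mem_cons.1 hq with rfl | hq
      exacts [hp, (hs0 q hq).1]
    rw [Set.ncard_coe_finset, Finset.card_image_of_injOn, List.toFinset_card_of_nodup] at hle
    · rw [ncard_common hC ha hd'far.1 (fun h => hd'far.2 h.symm), List.length_cons, lengths.2.2.2.2.2.1] at hle
      omega
    · exact List.nodup_cons.2 ⟨fun hm => hn (inMask_maskOf.2 hm), hnd⟩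
    · intro q hq q' hq' e
      simp only [List.coe_toFinset, Set.mem_setOf_eq] at hq hq'
      exact hinj q q' (hps q hq) (hps q' hq') (hγ.inj _ _ (hpsi q (hps q hq)) (hpsi q' (hps q' hq')) e)
  · exact (hs0 p (inMask_maskOf.1 hc)).2
  · have hfix : ∀ p ∈ [1, 4, 5, 9, 13], psiK k p = p := by
      have hc : ([1, 4, 5, 9, 13] : List ℕ).all (fun p => Nat.beq (psi p) p) = true := by decide +kernel
      intro p hp
      have h := Nat.eq_of_beq_eq_true (List.all_eq_true.1 hc p hp)
      match k with
      | 0 => rfl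
      | 1 => exact h
      | m + 2 => exact (congrArg psi h).trans h
    have h := line_prod hC ha hγ
    show γ _ * γ _ * γ _ * γ _ * γ _ = a
    rw [hfix 1 (by simp), hfix 4 (by simp), hfix 5 (by simp), hfix 9 (by simp), hfix 13 (by simp)]
    exact h

end Cfsg.Agent.TT95.Out22
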