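import Cfsg.Agent.TT95.Out22.Field
import Cfsg.Agent.TT95.Out22.Frame2
import Cfsg.Agent.TT95.Uni22.Unique

/-!
Type M(22): a semilinear automorphism fixing a transposition and a chosen neighbour.
-/

set_option autoImplicit false
set_option linter.unusedSectionVars false

namespace Cfsg.Agent.TT95.Out22

open Cfsg.Agent.TT95.U6 Cfsg.Agent.TT95.Uni22

theorem sig_isPt {x : ℕ} (hx : isPt x = true) : isPt (sig x) = true ∧ sig (sig x) = x := by
  have h := allP_iff.1 sig_pt_check x (mem_pts.2 hx)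
  rw [Bool.and_eq_true] at h
  exact ⟨h.1, Nat.eq_of_beq_eq_true h.2⟩

theorem psi3 {r : ℕ} (hr : isPt r = true) : psi (psi (psi r)) = r := by
  have := allP_iff.1 psi_check r (mem_pts.2 hr)
  rw [Bool.and_eq_true] at this
  exact Nat.eq_of_beq_eq_true this.2

variable {G : Type*} [Group G] [Finite G] {D : Set G} (hC : Cfg22 D) [Gen D] {a : G} (ha : a ∈ D) {γ : ℕ → G}
  (hγ : IsLocal D a γ)

include hC ha hγ

theorem local_sig : IsLocal D a (fun p => γ (sig p)) where
  mem p hp := hγ.mem _ (sig_isPt hp).1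
  surj x hx := by
    obtain ⟨p, hp, rfl⟩ := hγ.surj x hx
    exact ⟨sig p, (sig_isPt hp).1, congrArg γ (sig_isPt hp).2⟩
  inj p q hp hq e := by
    have := hγ.inj _ _ (sig_isPt hp).1 (sig_isPt hq).1 e
    rw [← (sig_isPt hp).2, ← (sig_isPt hq).2, this]
  comm p q hp hq := by
    have h := allP_iff.1 (allP_iff.1 sig_orth_check p (mem_pts.2 hp)) q (mem_pts.2 hq)
    rw [hγ.comm _ _ (sig_isPt hp).1 (sig_isPt hq).1, beq_iff_eq.1 h]
  isPt_tv := hγ.isPt_tv
  conj e p he hp := by
    have h := allP_iff.1 (allP_iff.1 sig_tv_check e (mem_pts.2 he)) p (mem_pts.2 hp)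
    show γ _ * γ _ * (γ _)⁻¹ = γ _
    rw [Nat.eq_of_beq_eq_true h, hγ.conj _ _ (sig_isPt he).1 (sig_isPt hp).1]
  line y hy := by
    have h5 : sig 1 = 1 ∧ sig 4 = 4 ∧ sig 5 = 5 ∧ sig 9 = 13 ∧ sig 13 = 9 := by decide +kernel
    have hp : isPt 9 = true ∧ isPt 13 = true ∧ orth 13 9 = true := by decide +kernel
    simp only [h5]
    have hc : Commute (γ 13) (γ 9) := (hγ.comm _ _ hp.2.1 hp.1).2 hp.2.2
    rw [mul_assoc _ (γ 13), hc.eq, ← mul_assoc]
    exact hγ.line y hy

omit ha hγ in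
/-- The automorphism carrying one frame to another. -/
theorem exists_frame_aut {a' d d' : G} {δ δ' : ℕ → G} (h : Std D a d δ) (h' : Std D a' d' δ') :
    ∃ φ : MulAut G, (∀ x, φ x ∈ D ↔ x ∈ D) ∧ φ a = a' ∧ ∀ p, isPt p = true → φ (δ p) = δ' p := by
  classical
  obtain ⟨Φ₁, i₁, r₁, t₁, -⟩ := exists_perm_rep hC h
  obtain ⟨Φ₂, i₂, r₂, t₂, -⟩ := exists_perm_rep hC h'
  have hg : ∀ i, i < 13 → Φ₁ (gen d δ i) = Φ₂ (gen d' δ' i) := fun i hi =>
    Equiv.ext fun t => Fin.ext ((t₁ i hi t).trans (t₂ i hi t).symm)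
  have hr : Φ₁.range = Φ₂.range := by
    rw [r₁, r₂]
    exact congrArg _ (Set.image_congr fun i hi => hg i hi)
  let e : G ≃* G := (MonoidHom.ofInjective i₁).trans
    ((MulEquiv.subgroupCongr hr).trans (MonoidHom.ofInjective i₂).symm)
  have he : ∀ x, Φ₂ (e x) = Φ₁ x := fun x => by
    show Φ₂ ((MonoidHom.ofInjective i₂).symm _) = _
    rw [MonoidHom.apply_ofInjective_symm]
    rfl
  have hgen : ∀ i, i < 13 → e (gen d δ i) = gen d' δ' i := fun i hi => i₂ ((he _).trans (hg i hi))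
  have hX : ∀ x ∈ gX, e (δ x) = δ' x := by
    intro x hx
    obtain ⟨i, hi, rfl⟩ := List.getElem_of_mem hx
    rw [lengths.1] at hi
    have h1 := hgen i (by omega)
    rwa [gen, gen, if_pos hi, if_pos hi,
      List.getD_eq_getElem _ _ (show i < gX.length by rw [lengths.1]; exact hi)] at h1
  have hstep : ∀ y x, y ∈ gX → isPt x = true → e (δ x) = δ' x → e (δ (tv y x)) = δ' (tv y x) := by
    intro y x hy hx hq
    rw [← h.conj y hy x hx, ← h'.conj y hy x hx, map_mul, map_mul, map_inv, hX y hy, hq]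
  have key : ∀ (L : List (ℕ × ℕ × ℕ)) (seen : ℕ), bfsOK (inMask (maskOf gX)) L seen = true →
      (∀ x, inMask seen x = true → e (δ x) = δ' x ∧ isPt x = true) →
      ∀ y ∈ L.map Prod.fst, e (δ y) = δ' y ∧ isPt y = true := by
    intro L
    induction L with
    | nil => simp
    | cons t L ih =>
      obtain ⟨y, u, x⟩ := t
      intro seen hok hs
      have he : bfsOK (inMask (maskOf gX)) ((y, u, x) :: L) seen = (inMask seen x && isPt u &&
          inMask (maskOf gX) u && Nat.beq (tv u x) y && bfsOK (inMask (maskOf gX)) L (addMask seen y)) := rfl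
      rw [he] at hok
      simp only [Bool.and_eq_true] at hok
      obtain ⟨⟨⟨⟨h1, h2⟩, h3⟩, h4⟩, h5⟩ := hok
      obtain ⟨qx, px⟩ := hs x h1
      have hy : e (δ y) = δ' y ∧ isPt y = true := by
        rw [← Nat.eq_of_beq_eq_true h4]
        exact ⟨hstep u x (inMask_maskOf.1 h3) px qx, h.isPt_tv u x h2 px⟩
      intro z hz
      rcases List.mem_cons.1 hz with rfl | hz
      · exact hy
      · refine ih _ h5 (fun w hw => ?_) z hz
        rw [inMask_addMask, Bool.or_eq_true, decide_eq_true_eq] at hw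
        rcases hw with hw | rfl
        exacts [hs w hw, hy]
  have hall : ∀ p, isPt p = true → e (δ p) = δ' p := by
    intro p hp
    have hmem := inMask_maskOf.1 (allP_iff.1 orbX_check.2 p (mem_pts.2 hp))
    rcases List.mem_append.1 hmem with hm | hm
    · exact hX p hm
    · exact (key orbX _ orbX_check.1 (fun x hx =>
        ⟨hX x (inMask_maskOf.1 hx), List.all_eq_true.1 gX_pts x (inMask_maskOf.1 hx)⟩) p hm).1
  have hfa : e a = a' := by
    have hl := fun p hp => List.all_eq_true.1 line_mem.1 p hp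
    rw [← h.line, map_mul, map_mul, map_mul, map_mul, hall 1 (hl 1 (by simp)), hall 4 (hl 4 (by simp)),
      hall 5 (hl 5 (by simp)), hall 9 (hl 9 (by simp)), hall 13 (hl 13 (by simp)), h'.line]
  refine ⟨e, fun x => ⟨fun hx => ?_, fun hx => ?_⟩, hfa, hall⟩
  · obtain ⟨g, hgx⟩ := hC.one a' h'.mema (e x) hx
    have : x = e.symm g * a * (e.symm g)⁻¹ := e.injective (by
      rw [map_mul, map_mul, map_inv, hfa, e.apply_symm_apply, hgx])
    rw [this]
    exact conj_mem hC.tt _ h.mema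
  · obtain ⟨g, rfl⟩ := hC.one a h.mema x hx
    rw [map_mul, map_mul, map_inv, hfa]
    exact conj_mem hC.tt _ h'.mema

/-- The semilinear automorphism. -/
theorem exists_semilinear : ∃ (φ : MulAut G) (m : ℕ), m < 3 ∧ φ a = a ∧ (∀ x, φ x ∈ D ↔ x ∈ D) ∧
    ∀ q, isPt q = true → φ (γ q) = γ (tau m q) := by
  obtain ⟨d, k, hk, h⟩ := exists_std_of hC ha hγ
  obtain ⟨d', k', hk', h'⟩ := exists_std_of hC ha (local_sig hC ha hγ)
  obtain ⟨φ, hφD, hφa, hφ⟩ := exists_frame_aut hC h h'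
  refine ⟨φ, (k' + 3 - k) % 3, Nat.mod_lt _ (by norm_num), hφa, hφD, fun q hq => ?_⟩
  have hp : ∀ j, isPt (psiK j q) = true := fun j => (psiK_spec hC hq).1
  have e3 := psi3 hq
  have key : psiK k (psiK ((3 - k) % 3) q) = q ∧ psiK k' (psiK ((3 - k) % 3) q) = psiK ((k' + 3 - k) % 3) q := by
    have e4 : psi (psi (psi (psi q))) = psi q := congrArg psi e3
    interval_cases k <;> interval_cases k' <;> simp [psiK, e3, e4]
  have := hφ (psiK ((3 - k) % 3) q) (hp _)
  simp only [key] at this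
  exact this

end Cfsg.Agent.TT95.Out22
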