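import Cfsg.Agent.TT95.Out22.Irred
import Cfsg.Agent.TT95.Out22.Outer
import Cfsg.Agent.TT95.PairFull
import Cfsg.Agent.TT95.Auto

/-!
Type M(22): the stabiliser of a pair in the automorphism group acts on the keys; the kernel is extraspecial.
-/

set_option autoImplicit false
set_option linter.unusedSectionVars false
set_option linter.style.haveILetI false

namespace Cfsg.Agent.TT95.Out22

open Cfsg.Agent.TT95 Cfsg.Agent.TT95.U6 Cfsg.Agent.TT95.K45G Cfsg.Agent.TT95.Uni22

variable {G : Type*} [Group G]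

theorem conj_inj (hZ : Subgroup.center G = ⊥) : Function.Injective (MulAut.conj : G →* MulAut G) := by
  refine (injective_iff_map_eq_one _).2 fun g hg => ?_
  rw [← Subgroup.mem_bot, ← hZ, Subgroup.mem_center_iff]
  intro x
  have h : g * x * g⁻¹ = x := DFunLike.congr_fun hg x
  exact (mul_inv_eq_iff_eq_mul.1 h).symm

theorem aut_conj (α : MulAut G) (x : G) : α * MulAut.conj x * α⁻¹ = MulAut.conj (α x) := by
  refine MulEquiv.ext fun y => ?_
  show α (x * (α⁻¹ y) * x⁻¹) = α x * y * (α x)⁻¹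
  rw [map_mul, map_mul, map_inv]
  simp

theorem mem_CA (hZ : Subgroup.center G = ⊥) {j : G} {α : MulAut G} :
    α ∈ Subgroup.centralizer ({MulAut.conj j} : Set (MulAut G)) ↔ α j = j := by
  rw [Subgroup.mem_centralizer_singleton_iff, ← mul_inv_eq_iff_eq_mul, aut_conj]
  exact ⟨fun h => conj_inj hZ h, fun h => by rw [h]⟩

/-- The data of a pair inside the automorphism group. -/
structure PairAut [Finite G] {D : Set G} (a b : G) (γ : ℕ → G) (Ψ : pairStab a b →* autGraph) (φ : MulAut G)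
    (π : autGraph) : Prop where
  cfg : Cfg22 D
  gen : Gen D
  memA : a ∈ D
  loc : IsLocal D a γ
  base : γ e1 = b
  surj : Function.Surjective Ψ
  spec : ∀ (g : pairStab a b) (i : Fin 45) (y : ℕ), isR y → γ y = (g : G) * γ (kv i) * (g : G)⁻¹ →
    kv (((Ψ g).1 i : Fin 45) : ℕ) = key y
  core : PairCore a b (Ψ.ker.map (pairStab a b).subtype)
  hcen : ∀ g : pairStab a b, (∀ z ∈ Ψ.ker.map (pairStab a b).subtype, (g : G) * z * (g : G)⁻¹ = z) → Ψ g = 1
  pres : ∀ (α : MulAut G) (x : G), α x ∈ D ↔ x ∈ D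
  phiA : φ a = a
  phiB : φ b = b
  odd : gsign π = -1
  twist : ∀ (g : pairStab a b) (h : φ g ∈ pairStab a b), Ψ ⟨φ g, h⟩ * π = π * Ψ g

theorem pi_exists {m : ℕ} (hm : m < 3) : ∃ π : autGraph, gsign π = -1 ∧
    ∀ i : Fin 45, kv ((π.1 i : Fin 45) : ℕ) = key (tau m (kv i)) := by
  classical
  have hmem : m ∈ [0, 1, 2] := by interval_cases m <;> simp
  have h := allP_iff.1 tau_check m hmem
  simp only [Bool.and_eq_true] at h
  obtain ⟨⟨-, h2⟩, h3⟩ := h
  obtain ⟨σ, hσ, hσi⟩ := exists_perm h2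
  refine ⟨⟨σ, hσ⟩, ?_, fun i => ?_⟩
  · show Equiv.Perm.sign σ = -1
    have h0 := allP_iff.1 tau_check 0 (by simp)
    simp only [Bool.and_eq_true] at h0
    obtain ⟨σ₀, -, hσ₀i⟩ := exists_perm h0.1.2
    have hs0 : Equiv.Perm.sign σ₀ = -1 := by
      have hinv : ∀ j < 45, apL (piL 0) (apL (piL 0) j) = j := by decide +kernel
      have hsq : σ₀ * σ₀ = 1 := Equiv.ext fun i => Fin.ext (by
        rw [Equiv.Perm.mul_apply, hσ₀i, hσ₀i]; exact hinv i i.2)
      have hfix : (((Finset.univ : Finset (Fin 45)).filter fun i : Fin 45 =>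
          Nat.beq (apL (piL 0) i) i = true).card) % 4 = 3 := by decide +kernel
      have hset : (Finset.univ.filter fun x : Fin 45 => σ₀ x = x) =
          (Finset.univ : Finset (Fin 45)).filter fun i : Fin 45 => Nat.beq (apL (piL 0) i) i = true := by
        ext i
        simp only [Finset.mem_filter, Finset.mem_univ, true_and]
        rw [← hσ₀i]
        exact ⟨fun e => by rw [e]; exact Nat.beq_refl _, fun e => Fin.ext (Nat.eq_of_beq_eq_true e)⟩
      set f := (Finset.univ.filter fun x : Fin 45 => σ₀ x = x).card with hfdef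
      rw [← hset, ← hfdef] at hfix
      have hle : f ≤ 45 := (Finset.card_filter_le _ _).trans (by simp)
      rw [sign_of_involution σ₀ hsq (2 * ((45 - f) / 4) + 1) (by rw [← hfdef, Fintype.card_fin]; omega),
        pow_succ, pow_mul, neg_one_sq, one_pow, one_mul]
    have h3 : ∀ j < 45, apL (piL 0) (apL (piL m) (apL (piL 0) (apL (piL m) (apL (piL 0) (apL (piL m) j))))) = j := by
      interval_cases m <;> decide +kernel
    have hr : (σ₀ * σ) * (σ₀ * σ) * (σ₀ * σ) = 1 := Equiv.ext fun i => Fin.ext (by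
      simp only [Equiv.Perm.mul_apply, hσ₀i, hσi, Equiv.Perm.one_apply]
      exact h3 i i.2)
    have h1 := congrArg Equiv.Perm.sign hr
    simp only [map_mul, map_one, hs0] at h1
    rcases Int.units_eq_one_or (Equiv.Perm.sign σ) with e | e
    · rw [e] at h1; exact absurd h1 (by decide)
    · exact e
  · show kv ((σ i : Fin 45) : ℕ) = _
    rw [hσi]
    exact Nat.eq_of_beq_eq_true (allP_iff.1 h3 i (List.mem_range.2 i.2))

variable [Finite G] {D : Set G}

/-- The data exist. -/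
theorem exists_pairAut (hC : Cfg22 D) [Gen D] (hcore : Core22 G D)
    (hpres : ∀ (α : MulAut G) (x : G), α x ∈ D ↔ x ∈ D) {a b : G} (ha : a ∈ D) (hb : b ∈ nb D a) :
    ∃ γ Ψ φ π, PairAut (D := D) a b γ Ψ φ π := by
  obtain ⟨γ, hγ, hγb⟩ := local_one hC ha hb
  obtain ⟨Ψ, hsurj, hspec⟩ := exists_keyAction hC ha hγ hγb hcore
  obtain ⟨hE, hcen⟩ := exists_pairCore hC ha hγ hγb hcore hsurj hspec
  obtain ⟨φ, m, hm, hφa, -, hφ⟩ := exists_semilinear hC ha hγ
  obtain ⟨π, hπ, hπi⟩ := pi_exists hm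
  have hmem : m ∈ [0, 1, 2] := by interval_cases m <;> simp
  have hchk := allP_iff.1 tau_check m hmem
  simp only [Bool.and_eq_true] at hchk
  obtain ⟨⟨⟨hR, h1⟩, -⟩, -⟩ := hchk
  have hRx : ∀ x, isR x → isR (tau m x) ∧ key (tau m x) = key (tau m (key x)) := fun x hx => by
    have h := allP_iff.1 hR x (mem_perp1 hx)
    rw [Bool.or_eq_true, Bool.and_eq_true, inRes_iff] at h
    rcases h with h | h
    · exact absurd (Nat.eq_of_beq_eq_true h) hx.2.2
    · exact ⟨h.1, Nat.eq_of_beq_eq_true h.2⟩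
  have hφb : φ b = b := by rw [← hγb, hφ e1 base_isPt.1, Nat.eq_of_beq_eq_true h1]
  refine ⟨γ, Ψ, φ, π, hC, inferInstance, ha, hγ, hγb, hsurj, hspec, hE, hcen, hpres, hφa, hφb, hπ,
    fun g h => Subtype.ext (Equiv.ext fun i => kv_inj hC ha hγ hγb ?_)⟩
  obtain ⟨hk, hkk⟩ := isR_kv hC ha hγ hγb i
  obtain ⟨y, hy, ey⟩ := pair_move hC ha hγ hγb g.2 hk
  rw [Subgroup.coe_mul, Subgroup.coe_mul, Equiv.Perm.mul_apply, Equiv.Perm.mul_apply, hπi, hspec g i y hy ey,
    ← (hRx y hy).2]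
  refine spec_gen hC ha hγ hγb hspec ⟨φ g, h⟩ (π.1 i) (x := tau m (kv i)) (hRx _ hk).1 (hπi i).symm (hRx y hy).1 ?_
  rw [← hφ y hy.1, ey, map_mul, map_mul, map_inv, hφ (kv i) hk.1]

namespace PairAut

variable {a b : G} {γ : ℕ → G} {Ψ : pairStab a b →* autGraph} {φ : MulAut G} {π : autGraph}
  (h : PairAut (D := D) a b γ Ψ φ π)

include h

theorem memB : b ∈ D ∧ b ≠ a ∧ Commute a b := b_mem h.cfg h.memA h.loc h.base

theorem j_ne : a * b ≠ 1 := fun e => h.memB.2.1 (by
  rw [eq_inv_of_mul_eq_one_left e, inv_eq h.cfg.tt h.memB.1])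

theorem stab_eq : pairStab a b = Subgroup.centralizer ({a * b} : Set G) :=
  pairStab_eq h.cfg h.memA h.memB.1 h.memB.2.1.symm h.memB.2.2

theorem mem_stab {g : G} : g ∈ pairStab a b ↔ g * (a * b) * g⁻¹ = a * b := by
  rw [h.stab_eq, Subgroup.mem_centralizer_singleton_iff, mul_inv_eq_iff_eq_mul]

theorem move {α : MulAut G} (hα : α (a * b) = a * b) {g : G} (hg : g ∈ pairStab a b) : α g ∈ pairStab a b := by
  rw [h.mem_stab] at hg ⊢
  conv_rhs => rw [← hα, ← hg]
  rw [map_mul, map_mul, map_inv, hα]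

theorem pair {α : MulAut G} (hα : α (a * b) = a * b) : (α a = a ∧ α b = b) ∨ (α a = b ∧ α b = a) := by
  obtain ⟨hbD, hba, hab⟩ := h.memB
  refine pair_unique h.cfg.tt h.cfg.tf h.memA hbD ((h.pres α a).2 h.memA) ((h.pres α b).2 hbD) hba.symm hab ?_ ?_
  · show α a * α b = α b * α a
    rw [← map_mul, ← map_mul, hab.eq]
  · rw [← map_mul, hα]

theorem phiJ : φ (a * b) = a * b := by rw [map_mul, h.phiA, h.phiB]

theorem fix_even_iff (g : pairStab a b) : (g : G) * a * (g : G)⁻¹ = a ↔ gsign (Ψ g) = 1 := by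
  haveI := h.gen
  obtain ⟨hbD, hba, hab⟩ := h.memB
  set K : Subgroup (pairStab a b) := (Subgroup.centralizer ({a, b} : Set G)).subgroupOf (pairStab a b)
  have hKm : ∀ g : pairStab a b, g ∈ K ↔ (g : G) * a * (g : G)⁻¹ = a := by
    intro g
    rw [Subgroup.mem_subgroupOf, Subgroup.mem_centralizer_iff]
    simp only [Set.mem_insert_iff, Set.mem_singleton_iff, forall_eq_or_imp, forall_eq]
    constructor
    · intro hh; rw [← hh.1, mul_inv_cancel_right]
    · intro hh
      refine ⟨(mul_inv_eq_iff_eq_mul.1 hh).symm, ?_⟩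
      rcases g.2 with ⟨-, e⟩ | ⟨e, -⟩
      · exact (mul_inv_eq_iff_eq_mul.1 e).symm
      · exact absurd (e.symm.trans hh) hba
  have hidx : K.index = 2 := pair_index_two h.cfg h.memA hbD hba.symm hab
  haveI hKn : K.Normal := Subgroup.normal_of_index_eq_two hidx
  have hkerK : Ψ.ker ≤ K := fun g hg => (hKm g).2 (h.core.le_fix g ⟨g, hg, rfl⟩).1
  have hN : (K.map Ψ).Normal := Subgroup.Normal.map hKn Ψ h.surj
  have hne : K.map Ψ ≠ ⊥ := by
    intro hb'
    have hle : K = Ψ.ker := le_antisymm ((Subgroup.map_eq_bot_iff _).1 hb') hkerK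
    have h' : Nat.card (pairStab a b ⧸ Ψ.ker) = 2 := hle ▸ hidx
    rw [Nat.card_congr (QuotientGroup.quotientKerEquivOfSurjective Ψ h.surj).toEquiv, card_autGraph] at h'
    omega
  have heven : ∀ g : pairStab a b, gsign (Ψ g) = 1 → g ∈ K := by
    intro g hg
    obtain ⟨k, hk, ek⟩ := even_mem_normal hN hne h.odd hg
    have : k⁻¹ * g ∈ K := hkerK (by rw [MonoidHom.mem_ker, map_mul, map_inv, ek, inv_mul_cancel])
    simpa using mul_mem hk this
  refine ⟨fun hg => ?_, fun hg => (hKm g).1 (heven g hg)⟩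
  by_contra hodd
  have hgo : gsign (Ψ g) = -1 := (Int.units_eq_one_or _).resolve_left hodd
  have htop : K = ⊤ := by
    rw [eq_top_iff]
    intro x _
    rcases Int.units_eq_one_or (gsign (Ψ x)) with hx | hx
    · exact heven x hx
    · have := heven (g⁻¹ * x) (by rw [map_mul, map_mul, map_inv, map_inv, hgo, hx]; decide)
      simpa using mul_mem ((hKm g).2 hg) this
  rw [htop, Subgroup.index_top] at hidx
  omega

theorem phi_not_inner : ¬ IsInner φ := by
  haveI := h.gen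
  rintro ⟨g, hg⟩
  have e : ∀ x, g * x * g⁻¹ = φ x := fun x => by rw [← hg]; rfl
  have hgP : g ∈ pairStab a b := h.mem_stab.2 (by rw [e, h.phiJ])
  have heven := (h.fix_even_iff ⟨g, hgP⟩).1 ((e a).trans h.phiA)
  have hc : (Ψ ⟨g, hgP⟩)⁻¹ * π = 1 := by
    rw [← Subgroup.mem_bot, ← autGraph_center, Subgroup.mem_center_iff]
    intro σ
    obtain ⟨x, rfl⟩ := h.surj σ
    have hx : φ (x : G) ∈ pairStab a b := h.move h.phiJ x.2
    have h1 := h.twist x hx
    have h2 : Ψ ⟨φ x, hx⟩ = Ψ ⟨g, hgP⟩ * Ψ x * (Ψ ⟨g, hgP⟩)⁻¹ := by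
      rw [← map_inv, ← map_mul, ← map_mul]
      exact congrArg Ψ (Subtype.ext (e x).symm)
    rw [h2] at h1
    rw [mul_assoc _ π, ← h1]
    group
  rw [inv_mul_eq_one] at hc
  rw [hc, h.odd] at heven
  exact absurd heven (by decide)

end PairAut

end Cfsg.Agent.TT95.Out22
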