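import Cfsg.Agent.TT95.Out22.AutExtra

/-!
Type M(22): the kernel is large in the automorphism group.
-/

set_option autoImplicit false
set_option linter.unusedSectionVars false
set_option linter.style.haveILetI false

namespace Cfsg.Agent.TT95.Out22

open Cfsg.Agent.TT95 Cfsg.Agent.TT95.U6 Cfsg.Agent.TT95.K45G Cfsg.Agent.TT95.Uni22

variable {G : Type*} [Group G] [Finite G] {D : Set G}

theorem line_four : inRes 4 = true ∧ inRes 5 = true ∧ inRes 9 = true ∧ inRes 13 = true ∧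
    key 4 = 4 ∧ key 5 = 4 ∧ key 9 = 4 ∧ key 13 = 4 := by decide +kernel

theorem PairAut.large (hcore : Core22 G D) {a b : G} {γ : ℕ → G} {Ψ : pairStab a b →* autGraph} {φ : MulAut G}
    {π : autGraph} (h : PairAut (D := D) a b γ Ψ φ π) : Cfsg.IsLargeExtraspecial h.Q := by
  haveI := h.gen
  haveI : Fact (Nat.Prime 2) := ⟨Nat.prime_two⟩
  have hD := h.cfg.tt
  obtain ⟨hbD, hba, hab⟩ := h.memB
  obtain ⟨r4, r5, r9, r13, k4, k5, k9, k13⟩ := line_four
  rw [inRes_iff] at r4 r5 r9 r13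
  have hfib : ∀ {p}, isR p → key p = 4 → p ∈ fibre 4 := fun hp hk => hk ▸ mem_fibre hp
  have hco : ∀ {p q}, isR p → key p = 4 → isR q → key q = 4 → Commute (γ p) (γ q) := fun hp hk hq hk' =>
    (h.loc.comm _ _ hp.1 hq.1).2 (fibre_orth (hfib hp hk) (hfib hq hk'))
  have hne : ∀ {p q}, isR p → isR q → p ≠ q → γ p ≠ γ q := fun hp hq hpq e => hpq (h.loc.inj _ _ hp.1 hq.1 e)
  have hmem : ∀ {p}, isR p → γ p ∈ D ∧ Commute (γ p) a ∧ Commute (γ p) b ∧ γ p ≠ a ∧ γ p ≠ b := fun hp => by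
    obtain ⟨c1, c2, c3⟩ := isR_commute h.cfg h.memA h.loc h.base hp
    exact ⟨(h.loc.mem _ hp.1).1, c1, c2, (h.loc.mem _ hp.1).2.1, c3⟩
  have hprod : γ 4 * γ 5 * γ 9 * γ 13 = a * b :=
    fibre_four_prod h.cfg h.memA h.loc h.base (hfib r4 k4) (hfib r5 k5) (hfib r9 k9) (hfib r13 k13)
      (by norm_num) (by norm_num) (by norm_num) (by norm_num) (by norm_num) (by norm_num)
  set x := γ 4 with hxdef
  set y := γ 5 with hydef
  set z := γ 9 with hzdef
  set w := γ 13 with hwdef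
  obtain ⟨hxD, xa, xb, xna, xnb⟩ := hmem r4
  obtain ⟨hyD, ya, yb, yna, ynb⟩ := hmem r5
  obtain ⟨hzD, za, zb, zna, znb⟩ := hmem r9
  obtain ⟨hwD, wa, wb, wna, wnb⟩ := hmem r13
  have cxy : Commute x y := hco r4 k4 r5 k5
  obtain ⟨γ', Ψ', φ', π', h'⟩ := exists_pairAut h.cfg hcore h.pres hxD
    (show y ∈ nb D x from ⟨hyD, hne r5 r4 (by norm_num), cxy⟩)
  -- the other two points have the same key for the pair (x, y)
  obtain ⟨p, hp, hpz⟩ := exists_isR h.cfg hxD h'.loc h'.base hzD (hco r9 k9 r4 k4) (hco r9 k9 r5 k5)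
    (hne r9 r4 (by norm_num)) (hne r9 r5 (by norm_num))
  obtain ⟨q, hq, hqw⟩ := exists_isR h.cfg hxD h'.loc h'.base hwD (hco r13 k13 r4 k4) (hco r13 k13 r5 k5)
    (hne r13 r4 (by norm_num)) (hne r13 r5 (by norm_num))
  have hkey : key p = key q := by
    rw [key_eq_iff h.cfg hxD h'.loc h'.base hp hq, hpz, hqw]
    intro t ht htx hty
    have czw : Commute z w := hco r9 k9 r13 k13
    have e1' : x * y * z = a * b * w := by
      rw [← hprod, mul_assoc _ w w, sq hD hwD, mul_one]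
    have e2' : x * y * w = a * b * z := by
      rw [← hprod, mul_assoc (x * y) z w, czw.eq, ← mul_assoc, mul_assoc _ z z, sq hD hzD, mul_one]
    constructor
    · intro htz
      have hc := (htx.mul_right hty).mul_right htz
      rw [e1'] at hc
      exact ((ThreeTransp.centralize_three hD.1 h.memA hbD hwD ht hba.symm wna.symm wnb.symm hab
        wa.symm wb.symm).1 hc).2.2
    · intro htw
      have hc := (htx.mul_right hty).mul_right htw
      rw [e2'] at hc
      exact ((ThreeTransp.centralize_three hD.1 h.memA hbD hzD ht hba.symm zna.symm znb.symm hab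
        za.symm zb.symm).1 hc).2.2
  set E' := Ψ'.ker.map (pairStab x y).subtype
  have hjE : a * b ∈ E' := by
    have h1 := mul_mem_ker h.cfg hxD h'.loc h'.base h'.spec hp hq hkey
    rw [hpz, hqw] at h1
    rw [← hprod, mul_assoc (x * y) z w]
    exact mul_mem (mul_mem h'.core.pair.1 h'.core.pair.2) h1
  have hxyQ : MulAut.conj (x * y) ∈ h.Q :=
    h.conj_mem_Q.2 (mul_mem_ker h.cfg h.memA h.loc h.base h.spec r4 r5 (k4.trans k5.symm))
  refine LargeExtraspecial.Setup.large_of_involution h.setup (b := MulAut.conj (x * y)) hxyQ ?_ h'.z_sq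
    (T := E'.map MulAut.conj) ?_ ?_ ?_ ⟨_, hjE, rfl⟩
  · intro hm
    rcases h.setup.zpowers_cases hm with e | e
    · exact h'.z_ne e
    · rcases pair_unique hD h.cfg.tf hxD hyD h.memA hbD (hne r4 r5 (by norm_num)) cxy hab
        (conj_inj h.center_eq e) with ⟨e', -⟩ | ⟨e', -⟩
      · exact xna e'.symm
      · exact yna e'.symm
  · rintro _ ⟨u, hu, rfl⟩
    exact h'.Q_le (h'.conj_mem_Q.2 hu)
  · rintro c hc _ ⟨u, hu, rfl⟩
    exact ⟨_, h'.move_E hc hu, (aut_conj c u).symm⟩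
  · exact (IsPGroup.of_card (n := 10) (by rw [h'.core.card]; norm_num) : IsPGroup 2 E').map _

end Cfsg.Agent.TT95.Out22
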