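import Cfsg.Agent.TT95.Out22.AutKernel

/-!
Type M(22): the kernel in the automorphism group is a large extraspecial group, the generalized Fitting
subgroup of the centraliser.
-/

set_option autoImplicit false
set_option linter.unusedSectionVars false
set_option linter.style.haveILetI false

namespace Cfsg.Agent.TT95.Out22

open Cfsg.Agent.TT95 Cfsg.Agent.TT95.U6 Cfsg.Agent.TT95.K45G Cfsg.Agent.TT95.Uni22
open scoped commutatorElement

namespace PairAut

variable {G : Type*} [Group G] [Finite G] {D : Set G} {a b : G} {γ : ℕ → G} {Ψ : pairStab a b →* autGraph}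
  {φ : MulAut G} {π : autGraph} (h : PairAut (D := D) a b γ Ψ φ π)

include h

theorem j_sq : a * b * (a * b) = 1 := by
  obtain ⟨hbD, -, hab⟩ := h.memB
  rw [show a * b * (a * b) = a * (b * a) * b by group, ← hab.eq, ← mul_assoc, sq h.cfg.tt h.memA, one_mul,
    sq h.cfg.tt hbD]

theorem commute_j {x : G} (hx : x ∈ Ψ.ker.map (pairStab a b).subtype) : Commute (a * b) x :=
  (mul_inv_eq_iff_eq_mul.1 (h.inv_four (Or.inr (Or.inr (Or.inr rfl))) x hx)).symm

theorem outer_conj {t : MulAut G} (ht : t ∈ h.Q) (hto : ¬ IsInner t) : t a = b := by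
  obtain ⟨c, -, hc, hca, hco⟩ := h.exists_swap
  obtain ⟨e, he, r | r⟩ := h.Q_cases ht hc hco
  · exact absurd ⟨e, r.symm⟩ hto
  · subst r
    show e * (MulAut.conj c * φ) a * e⁻¹ = b
    rw [hca]
    exact (h.core.le_fix e he).2

/-- The kernel moves each element within its coset of the product. -/
theorem commutator_two {q : MulAut G} (hq : q ∈ h.Q) {e : G} (he : e ∈ Ψ.ker.map (pairStab a b).subtype) :
    e⁻¹ * q e = 1 ∨ e⁻¹ * q e = a * b := by
  classical
  haveI := h.gen
  obtain ⟨hbD, hba, hab⟩ := h.memB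
  set E := Ψ.ker.map (pairStab a b).subtype
  let J : Subgroup G := Subgroup.zpowers (a * b)
  have hJ : ∀ {x}, x ∈ J ↔ x = 1 ∨ x = a * b := by
    intro x
    constructor
    · intro hx
      obtain ⟨n, rfl⟩ := Subgroup.mem_zpowers_iff.1 hx
      rcases Int.even_or_odd n with ⟨k, rfl⟩ | ⟨k, rfl⟩
      · left; rw [show k + k = 2 * k by ring, zpow_mul, zpow_two, h.j_sq, one_zpow]
      · right; rw [zpow_add, zpow_mul, zpow_two, h.j_sq, one_zpow, one_mul, zpow_one]
    · rintro (rfl | rfl)
      · exact one_mem _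
      · exact Subgroup.mem_zpowers _
  rw [← hJ]
  -- the elements with this property
  let W : Subgroup G :=
    { carrier := {x | x ∈ E ∧ ∀ p ∈ h.Q, x⁻¹ * p x ∈ J}
      one_mem' := ⟨one_mem _, fun p _ => by simp⟩
      mul_mem' := by
        rintro x y ⟨hx, hx'⟩ ⟨hy, hy'⟩
        refine ⟨mul_mem hx hy, fun p hp => ?_⟩
        have hc : Commute (x⁻¹ * p x) y := by
          rcases hJ.1 (hx' p hp) with e | e <;> rw [e]
          exacts [Commute.one_left y, h.commute_j hy]
        rw [show (x * y)⁻¹ * p (x * y) = y⁻¹ * (x⁻¹ * p x) * p y by rw [map_mul]; group,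
          mul_assoc, ← mul_assoc y⁻¹, hc.inv_right.eq.symm, mul_assoc]
        exact mul_mem (hx' p hp) (hy' p hp)
      inv_mem' := by
        rintro x ⟨hx, hx'⟩
        refine ⟨inv_mem hx, fun p hp => ?_⟩
        have hc : Commute (x⁻¹ * p x) x := by
          rcases hJ.1 (hx' p hp) with e | e <;> rw [e]
          exacts [Commute.one_left x, h.commute_j hx]
        have e : x⁻¹⁻¹ * p x⁻¹ = (x⁻¹ * p x)⁻¹ := by
          rw [map_inv, inv_inv]
          calc x * (p x)⁻¹ = x * (x * (x⁻¹ * p x))⁻¹ := by group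
            _ = x * ((x⁻¹ * p x) * x)⁻¹ := by rw [hc.eq]
            _ = (x⁻¹ * p x)⁻¹ := by group
        rw [e]
        exact inv_mem (hx' p hp) }
  suffices hWE : E ≤ W from (hWE he).2 q hq
  have hWle : W ≤ E := fun x hx => hx.1
  have ha : a ∈ W := ⟨h.core.pair.1, fun p hp => hJ.2 (by
    rcases h.pair (h.mem_ca.1 (h.Q_le hp)) with ⟨e', -⟩ | ⟨e', -⟩ <;> rw [e', inv_eq h.cfg.tt h.memA]
    · exact Or.inl (sq h.cfg.tt h.memA)
    · exact Or.inr rfl)⟩
  have hb : b ∈ W := ⟨h.core.pair.2, fun p hp => hJ.2 (by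
    rcases h.pair (h.mem_ca.1 (h.Q_le hp)) with ⟨-, e'⟩ | ⟨-, e'⟩ <;> rw [e', inv_eq h.cfg.tt hbD]
    · exact Or.inl (sq h.cfg.tt hbD)
    · exact Or.inr hab.eq.symm)⟩
  have hinv : ∀ g ∈ pairStab a b, ∀ x ∈ W, g * x * g⁻¹ ∈ W := by
    rintro g hg x ⟨hx, hx'⟩
    refine ⟨conj_mem_ker h.cfg h.memA h.loc h.base h.surj h.spec h.core hg hx, fun p hp => ?_⟩
    have hq' := h.Q_conj_mem (inv_mem (h.conj_mem_ca.2 hg)) hp
    have e1' := hx' _ hq'
    have e : (g * x * g⁻¹)⁻¹ * p (g * x * g⁻¹) =
        g * (x⁻¹ * ((MulAut.conj g)⁻¹ * p * (MulAut.conj g)⁻¹⁻¹) x) * g⁻¹ := by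
      show _ = g * (x⁻¹ * (g⁻¹ * p (g * x * g⁻¹) * g)) * g⁻¹
      group
    rw [e]
    rcases hJ.1 e1' with e' | e' <;> rw [e']
    · simp
    · rw [(h.mem_stab.1 hg)]; exact Subgroup.mem_zpowers _
  rcases invariant_cases h.cfg h.memA h.loc h.base h.surj h.spec h.core h.odd hWle ha hb hinv with hh | hh
  · exfalso
    -- the condition has index two
    obtain ⟨c, -, ht, hta, hto⟩ := h.exists_swap
    set t := MulAut.conj c * φ
    have htW : ∀ x ∈ E, x⁻¹ * t x ∈ J → x ∈ W := by
      intro x hx hxt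
      refine ⟨hx, fun p hp => ?_⟩
      obtain ⟨e', he', r | r⟩ := h.Q_cases hp ht hto <;> subst r
      · show x⁻¹ * (e' * x * e'⁻¹) ∈ J
        rcases conj_cases h.cfg h.memA h.loc h.base h.surj h.spec h.core he' hx with r | r <;> rw [r]
        · simp
        · rw [inv_mul_cancel_left]; exact Subgroup.mem_zpowers _
      · show x⁻¹ * (e' * t x * e'⁻¹) ∈ J
        rcases conj_cases h.cfg h.memA h.loc h.base h.surj h.spec h.core he' (h.move_E (h.Q_le ht) hx) with r | r <;>
          rw [r]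
        · exact hxt
        · rw [← mul_assoc]; exact mul_mem hxt (Subgroup.mem_zpowers _)
    have hsplit : ∀ x ∈ E, x ∈ W ∨ (x⁻¹ * t x = a ∨ x⁻¹ * t x = b) := by
      intro x hx
      rcases h.commutator_four ht hx with r | r | r | r
      · exact Or.inl (htW x hx (hJ.2 (Or.inl r)))
      · exact Or.inr (Or.inl r)
      · exact Or.inr (Or.inr r)
      · exact Or.inl (htW x hx (hJ.2 (Or.inr r)))
    by_cases hall : ∀ x ∈ E, x ∈ W
    · have h4 := card_le_four h.cfg h.memA h.loc h.base h.surj h.spec h.core h.odd hh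
      have := Subgroup.card_le_of_le (hall : E ≤ W)
      rw [h.core.card] at this
      omega
    push Not at hall
    obtain ⟨x0, hx0, hx0W⟩ := hall
    have hx0' := (hsplit x0 hx0).resolve_left hx0W
    have hcov : ∀ x ∈ E, x ∈ W ∨ x0⁻¹ * x ∈ W := by
      intro x hx
      rcases hsplit x hx with r | hx'
      · exact Or.inl r
      refine Or.inr (htW _ (mul_mem (inv_mem hx0) hx) ?_)
      have hc : Commute (x0⁻¹ * t x0) x0 := by
        rcases hx0' with r | r <;> rw [r]
        · exact (mul_inv_eq_iff_eq_mul.1 (h.inv_four (Or.inr (Or.inl rfl)) x0 hx0)).symm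
        · exact (mul_inv_eq_iff_eq_mul.1 (h.inv_four (Or.inr (Or.inr (Or.inl rfl))) x0 hx0)).symm
      have hc' : Commute (x0⁻¹ * t x0) x := by
        rcases hx0' with r | r <;> rw [r]
        · exact (mul_inv_eq_iff_eq_mul.1 (h.inv_four (Or.inr (Or.inl rfl)) x hx)).symm
        · exact (mul_inv_eq_iff_eq_mul.1 (h.inv_four (Or.inr (Or.inr (Or.inl rfl))) x hx)).symm
      have key : (x0⁻¹ * x)⁻¹ * t (x0⁻¹ * x) = (x0⁻¹ * t x0)⁻¹ * (x⁻¹ * t x) := by
        rw [map_mul, map_inv]
        calc (x0⁻¹ * x)⁻¹ * ((t x0)⁻¹ * t x) = x⁻¹ * (x0 * (x0⁻¹ * t x0)⁻¹) * x0⁻¹ * t x := by group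
          _ = x⁻¹ * ((x0⁻¹ * t x0)⁻¹ * x0) * x0⁻¹ * t x := by rw [hc.inv_left.eq]
          _ = x⁻¹ * (x0⁻¹ * t x0)⁻¹ * t x := by group
          _ = (x0⁻¹ * t x0)⁻¹ * x⁻¹ * t x := by rw [← (hc'.inv_inv).eq]
          _ = _ := mul_assoc _ _ _
      rw [key]
      rcases hx0' with r | r <;> rcases hx' with s | s <;> rw [r, s]
      · simp
      · rw [inv_eq h.cfg.tt h.memA]; exact Subgroup.mem_zpowers _
      · rw [inv_eq h.cfg.tt hbD, ← hab.eq]; exact Subgroup.mem_zpowers _
      · simp
    have hsub : (E : Set G) ⊆ (W : Set G) ∪ (fun x => x0 * x) '' (W : Set G) := fun x hx => by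
      rcases hcov x hx with r | r
      · exact Or.inl r
      · exact Or.inr ⟨_, r, by group⟩
    have h4 := card_le_four h.cfg h.memA h.loc h.base h.surj h.spec h.core h.odd hh
    have hle := (Set.ncard_le_ncard hsub (Set.toFinite _)).trans
      ((Set.ncard_union_le _ _).trans (Nat.add_le_add_left (Set.ncard_image_le (Set.toFinite _)) _))
    rw [← Nat.card_coe_set_eq, ← Nat.card_coe_set_eq, SetLike.coe_sort_coe, SetLike.coe_sort_coe, h.core.card] at hle
    omega
  · exact hh.ge

theorem jEq (x : G) (hx : x = 1 ∨ x = a * b) : MulAut.conj x ∈ Subgroup.zpowers (MulAut.conj (a * b)) := by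
  rcases hx with e | e <;> rw [e]
  · rw [map_one]; exact one_mem _
  · exact Subgroup.mem_zpowers _

/-- Squares in the kernel lie in the centre. -/
theorem sq_cases {q : MulAut G} (hq : q ∈ h.Q) : q * q ∈ Subgroup.zpowers (MulAut.conj (a * b)) := by
  classical
  haveI := h.gen
  obtain ⟨hbD, hba, hab⟩ := h.memB
  set E := Ψ.ker.map (pairStab a b).subtype
  by_cases hqi : IsInner q
  · obtain ⟨e, rfl⟩ := hqi
    rw [← map_mul]
    exact h.jEq _ (h.core.squares e (h.conj_mem_Q.1 hq))
  have hsq : ∀ t ∈ h.Q, ¬ IsInner t → ∃ s ∈ E, t * t = MulAut.conj s ∧ t s = s := by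
    intro t ht hto
    obtain ⟨e, he, r | r⟩ := h.Q_cases (mul_mem ht ht) ht hto
    · refine ⟨e, he, r, conj_inj h.center_eq ?_⟩
      rw [← aut_conj, ← r]; group
    · exact absurd ⟨e, (mul_right_cancel r).symm⟩ hto
  obtain ⟨c, -, ht, hta, hto⟩ := h.exists_swap
  set t := MulAut.conj c * φ
  obtain ⟨s, hsE, hts, htfix⟩ := hsq t ht hto
  -- all outer squares agree modulo the product
  have hall : ∀ p ∈ h.Q, ¬ IsInner p → ∀ r, p * p = MulAut.conj r → s⁻¹ * r = 1 ∨ s⁻¹ * r = a * b := by
    intro p hp hpo r hr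
    obtain ⟨x, hx, e | e⟩ := h.Q_cases hp ht hto
    · exact absurd ⟨x, e.symm⟩ hpo
    subst e
    have e2 : MulAut.conj x * t * (MulAut.conj x * t) = MulAut.conj (x * t x * s) := by
      calc MulAut.conj x * t * (MulAut.conj x * t) = MulAut.conj x * (t * MulAut.conj x * t⁻¹) * (t * t) := by group
        _ = _ := by rw [aut_conj, hts, map_mul, map_mul]
    rw [e2] at hr
    have hr' := conj_inj h.center_eq hr
    have hcom : x * t x = 1 ∨ x * t x = a * b := by
      have e3 : x * t x = x * x * (x⁻¹ * t x) := by group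
      rw [e3]
      rcases h.core.squares x hx with u | u <;> rcases h.commutator_two ht hx with v | v <;> rw [u, v]
      · exact Or.inl (one_mul 1)
      · exact Or.inr (one_mul _)
      · exact Or.inr (mul_one _)
      · exact Or.inl h.j_sq
    rw [← hr']
    rcases hcom with u | u <;> rw [u]
    · left; rw [one_mul, inv_mul_cancel]
    · right; rw [(h.commute_j hsE).eq, inv_mul_cancel_left]
  -- so the square is the pair or trivial
  set W := Subgroup.closure ({a, b, s} : Set G)
  have hsW : s ∈ W := Subgroup.subset_closure (by simp)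
  have hWE : W ≤ E := (Subgroup.closure_le _).2 (by
    rintro y (rfl | rfl | rfl); exacts [h.core.pair.1, h.core.pair.2, hsE])
  have haW : a ∈ W := Subgroup.subset_closure (by simp)
  have hbW : b ∈ W := Subgroup.subset_closure (by simp)
  have hinv : ∀ g ∈ pairStab a b, ∀ y ∈ W, g * y * g⁻¹ ∈ W := by
    intro g hg y hy
    induction hy using Subgroup.closure_induction with
    | mem y hy =>
      rcases hy with hy | hy | hy <;> subst y
      · rcases hg with ⟨e', -⟩ | ⟨e', -⟩ <;> rw [e'] <;> assumption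
      · rcases hg with ⟨-, e'⟩ | ⟨-, e'⟩ <;> rw [e'] <;> assumption
      · have hp := h.Q_conj_mem (h.conj_mem_ca.2 hg) ht
        have hpo : ¬ IsInner (MulAut.conj g * t * (MulAut.conj g)⁻¹) := fun ⟨u, hu⟩ => hto ⟨g⁻¹ * u * g, by
          rw [map_mul, map_mul, map_inv, hu]; group⟩
        have h1 := hall _ hp hpo (g * s * g⁻¹) (by
          rw [map_mul, map_mul, map_inv, ← hts]; group)
        rw [show g * s * g⁻¹ = s * (s⁻¹ * (g * s * g⁻¹)) by group]
        refine mul_mem hsW ?_
        rcases h1 with u | u <;> rw [u]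
        exacts [one_mem _, mul_mem haW hbW]
    | one => simp
    | mul x y _ _ ex ey => rw [show g * (x * y) * g⁻¹ = g * x * g⁻¹ * (g * y * g⁻¹) by group]; exact mul_mem ex ey
    | inv x _ ex => rw [show g * x⁻¹ * g⁻¹ = (g * x * g⁻¹)⁻¹ by group]; exact inv_mem ex
  have hsj : s = 1 ∨ s = a * b := by
    rcases invariant_cases h.cfg h.memA h.loc h.base h.surj h.spec h.core h.odd hWE haW hbW hinv with hh | hh
    · rcases hh s hsW with u | u | u | u
      · exact Or.inl u
      · exact absurd ((h.outer_conj ht hto).symm.trans (u ▸ htfix)) hba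
      · refine absurd ?_ hba
        have h1 := h.outer_conj ht hto
        rw [u] at htfix
        exact (t.injective (htfix.trans h1.symm))
      · exact Or.inr u
    · exfalso
      obtain ⟨x, hx, y, hy, hxy⟩ := h.core.noncomm
      refine hxy ?_
      have hgen : ∀ p ∈ ({a, b, s} : Set G), ∀ r ∈ ({a, b, s} : Set G), p * r = r * p := by
        have cE : ∀ z, (z = a ∨ z = b) → ∀ r ∈ E, r * z = z * r := fun z hz r hr => by
          rcases hz with rfl | rfl
          exacts [mul_inv_eq_iff_eq_mul.1 (h.core.le_fix r hr).1, mul_inv_eq_iff_eq_mul.1 (h.core.le_fix r hr).2]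
        intro p hp r hr
        rcases hp with rfl | rfl | rfl
        · exact (cE _ (Or.inl rfl) r (hWE (Subgroup.subset_closure hr))).symm
        · exact (cE _ (Or.inr rfl) r (hWE (Subgroup.subset_closure hr))).symm
        · rcases hr with rfl | rfl | rfl
          · exact cE _ (Or.inl rfl) _ hsE
          · exact cE _ (Or.inr rfl) _ hsE
          · rfl
      have hxW := hh.ge hx
      have hyW := hh.ge hy
      have h1 : W ≤ Subgroup.centralizer ({a, b, s} : Set G) :=
        (Subgroup.closure_le _).2 fun p hp => Subgroup.mem_centralizer_iff.2 fun r hr => hgen r hr p hp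
      have h2 : W ≤ Subgroup.centralizer (W : Set G) := by
        show W ≤ Subgroup.centralizer ((Subgroup.closure _ : Subgroup G) : Set G)
        rw [Subgroup.centralizer_closure]; exact h1
      exact Subgroup.mem_centralizer_iff.1 (h2 hyW) x hxW
  obtain ⟨r, hrE, hqr, -⟩ := hsq q hq hqi
  rw [hqr]
  refine h.jEq _ ?_
  have er : r = s * (s⁻¹ * r) := by group
  rw [er]
  rcases hall q hq hqi r hqr with u | u <;> rcases hsj with v | v <;> rw [u, v]
  · exact Or.inl (one_mul 1)
  · exact Or.inr (mul_one _)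
  · exact Or.inr (one_mul _)
  · exact Or.inl h.j_sq

theorem z_commute {q : MulAut G} (hq : q ∈ h.Q) : Commute (MulAut.conj (a * b)) q :=
  (Subgroup.mem_centralizer_singleton_iff.1 (h.Q_le hq)).symm

theorem z_sq : MulAut.conj (a * b) * MulAut.conj (a * b) = 1 := by rw [← map_mul, h.j_sq, map_one]

theorem z_ne : MulAut.conj (a * b) ≠ 1 := fun e => h.j_ne (conj_inj h.center_eq (by rw [e, map_one]))

theorem z_mem_Q : MulAut.conj (a * b) ∈ h.Q := h.conj_mem_Q.2 (mul_mem h.core.pair.1 h.core.pair.2)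

theorem extraspecial : Cfsg.IsExtraspecial 2 h.Q := by
  haveI := h.gen
  haveI : Fact (Nat.Prime 2) := ⟨Nat.prime_two⟩
  obtain ⟨hbD, hba, hab⟩ := h.memB
  set z : h.Q := ⟨MulAut.conj (a * b), h.z_mem_Q⟩
  have hzm : ∀ x : h.Q, (x : MulAut G) ∈ Subgroup.zpowers (MulAut.conj (a * b)) → x ∈ Subgroup.zpowers z := by
    intro x hx
    obtain ⟨n, hn⟩ := Subgroup.mem_zpowers_iff.1 hx
    exact Subgroup.mem_zpowers_iff.2 ⟨n, Subtype.ext (by rw [Subgroup.coe_zpow]; exact hn)⟩
  refine LargeExtraspecial.isExtraspecial_of (c := z) h.Q_pGroup (fun e => h.z_ne (congrArg Subtype.val e))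
    (Subtype.ext h.z_sq) (fun x => Subtype.ext (h.z_commute x.2).eq) (fun x hx => hzm x ?_) (fun x y => ?_)
    (fun x => hzm _ (h.sq_cases x.2)) ?_
  · obtain ⟨c, -, ht, hta, hto⟩ := h.exists_swap
    set t := MulAut.conj c * φ
    have hcA := congrArg Subtype.val (hx ⟨MulAut.conj a, h.conj_mem_Q.2 h.core.pair.1⟩).eq
    simp only [Subgroup.coe_mul] at hcA
    have hxa : x.1 a = a := conj_inj h.center_eq (by rw [← aut_conj, hcA]; group)
    obtain ⟨e, he, r | r⟩ := h.Q_cases x.2 ht hto
    · rw [r]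
      have hE' : ∀ y ∈ Ψ.ker.map (pairStab a b).subtype, Commute e y := fun y hy => by
        have hh := congrArg Subtype.val (hx ⟨MulAut.conj y, h.conj_mem_Q.2 hy⟩).eq
        simp only [Subgroup.coe_mul, r, ← map_mul] at hh
        exact conj_inj h.center_eq hh
      have hte : t e = e := conj_inj h.center_eq (by
        have hh := congrArg Subtype.val (hx ⟨t, ht⟩).eq
        simp only [Subgroup.coe_mul, r] at hh
        rw [← aut_conj, ← hh]; group)
      rcases h.core.center e he hE' with u | u | u | u <;> subst u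
      · exact h.jEq _ (Or.inl rfl)
      · exact absurd (hte.symm.trans hta).symm hba
      · exact absurd (t.injective (hte.trans hta.symm)) hba
      · exact h.jEq _ (Or.inr rfl)
    · rw [r] at hxa
      change e * t a * e⁻¹ = a at hxa
      rw [hta, (h.core.le_fix e he).2] at hxa
      exact absurd hxa hba
  · refine hzm _ ?_
    have e : ((⁅x, y⁆ : h.Q) : MulAut G) = (x.1 * y.1) * (x.1 * y.1) * ((y.1 * y.1)⁻¹ * (x.1 * x.1)⁻¹) *
        1 := by
      have h1 : ∀ w : MulAut G, w ∈ h.Q → Commute ((y.1 * y.1)⁻¹) w ∧ Commute ((x.1 * x.1)⁻¹) w := by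
        intro w hw
        constructor <;> [obtain ⟨n, hn⟩ := Subgroup.mem_zpowers_iff.1 (h.sq_cases y.2);
          obtain ⟨n, hn⟩ := Subgroup.mem_zpowers_iff.1 (h.sq_cases x.2)] <;>
          (rw [← hn]; exact ((h.z_commute hw).zpow_left n).inv_left)
      rw [commutatorElement_def, mul_one]
      simp only [Subgroup.coe_mul, Subgroup.coe_inv]
      calc (x.1 * y.1 * x.1⁻¹ * y.1⁻¹ : MulAut G) = x.1 * y.1 * x.1 * ((x.1 * x.1)⁻¹ * (y.1 * (y.1 * y.1)⁻¹)) := by
            group
        _ = x.1 * y.1 * x.1 * (y.1 * ((y.1 * y.1)⁻¹ * (x.1 * x.1)⁻¹)) := by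
            congr 1
            rw [← mul_assoc, (h1 _ y.2).2.eq, mul_assoc, (h1 _ (inv_mem (mul_mem y.2 y.2))).2.eq]
        _ = _ := by group
    rw [e, mul_one]
    exact mul_mem (h.sq_cases (mul_mem x.2 y.2)) (mul_mem (inv_mem (h.sq_cases y.2)) (inv_mem (h.sq_cases x.2)))
  · obtain ⟨x, hx, y, hy, hxy⟩ := h.core.noncomm
    refine ⟨⟨_, h.conj_mem_Q.2 hx⟩, ⟨_, h.conj_mem_Q.2 hy⟩, fun e => hxy ?_⟩
    have hh := congrArg Subtype.val (commutatorElement_eq_one_iff_commute.1 e).eq
    simp only [Subgroup.coe_mul, ← map_mul] at hh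
    exact conj_inj h.center_eq hh

theorem centralizer_eq : Subgroup.centralizer (h.Q : Set (MulAut G)) = Subgroup.zpowers (MulAut.conj (a * b)) := by
  haveI := h.gen
  obtain ⟨hbD, hba, hab⟩ := h.memB
  set E := Ψ.ker.map (pairStab a b).subtype
  have hle : Subgroup.zpowers (MulAut.conj (a * b)) ≤ Subgroup.centralizer (h.Q : Set (MulAut G)) :=
    Subgroup.zpowers_le.2 (Subgroup.mem_centralizer_iff.2 fun q hq => (h.z_commute hq).eq.symm)
  refine le_antisymm (fun α hα => ?_) hle
  have hfix : ∀ e ∈ E, α e = e := fun e he => conj_inj h.center_eq (by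
    rw [← aut_conj, ← Subgroup.mem_centralizer_iff.1 hα _ (h.conj_mem_Q.2 he)]; group)
  have hαA : α ∈ CA a b := h.mem_ca.2 (hfix _ (mul_mem h.core.pair.1 h.core.pair.2))
  -- automorphisms fixing the kernel pointwise act trivially on the keys
  have hact : h.act ⟨α, hαA⟩ = 1 := by
    by_contra hne
    set T : Subgroup (CA a b) :=
      { carrier := {β | ∀ e ∈ E, β.1 e = e}
        one_mem' := fun e _ => rfl
        mul_mem' := fun {x y} hx hy e he => by
          show x.1 (y.1 e) = e
          rw [hy e he, hx e he]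
        inv_mem' := fun {x} hx e he => by
          show x.1⁻¹ e = e
          conv_lhs => rw [← hx e he]
          exact MulEquiv.symm_apply_apply x.1 e }
    have hTn : T.Normal := ⟨fun β hβ g e he => by
      show g.1 (β.1 (g.1⁻¹ e)) = e
      rw [hβ _ (h.move_E (inv_mem g.2) he)]
      exact MulEquiv.apply_symm_apply g.1 e⟩
    have hN : (T.map h.act).Normal := Subgroup.Normal.map hTn _ h.act_surj
    have hTne : T.map h.act ≠ ⊥ := fun hb' => hne (by
      rw [← Subgroup.mem_bot, ← hb']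
      exact ⟨⟨α, hαA⟩, hfix, rfl⟩)
    -- pick a non-trivial even element
    obtain ⟨σ, hσ, hσ1⟩ : ∃ σ : autGraph, gsign σ = 1 ∧ σ ≠ 1 := by
      by_contra hall
      push Not at hall
      have hinj : Function.Injective gsign := (injective_iff_map_eq_one _).2 hall
      have := Nat.card_le_card_of_injective _ hinj
      rw [card_autGraph, Nat.card_eq_fintype_card, Fintype.card_units_int] at this
      omega
    obtain ⟨β, hβ, eβ⟩ := even_mem_normal hN hTne h.odd hσ
    have hβa : β.1 a = a := hβ a h.core.pair.1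
    obtain ⟨g, hg, r | r⟩ := h.decomp β.2
    · have hβ' : β = ⟨MulAut.conj g, h.conj_mem_ca.2 hg⟩ := Subtype.ext r
      rw [hβ', h.act_conj hg] at eβ
      refine hσ1 (eβ ▸ h.hcen ⟨g, hg⟩ fun z hz => ?_)
      have := hβ z hz
      rw [r] at this
      exact this
    · have hβ' : β = ⟨MulAut.conj g * φ, mul_mem (h.conj_mem_ca.2 hg) h.phi_mem⟩ := Subtype.ext r
      rw [hβ', h.act_conj_phi hg] at eβ
      rw [r] at hβa
      change g * φ a * g⁻¹ = a at hβa
      rw [h.phiA] at hβa
      have := (h.fix_even_iff ⟨g, hg⟩).1 hβa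
      rw [← eβ, map_mul, this, h.odd] at hσ
      exact absurd hσ (by decide)
  have hαQ : α ∈ h.Q := h.mem_Q.2 ⟨hαA, hact⟩
  obtain ⟨c, -, ht, hta, hto⟩ := h.exists_swap
  obtain ⟨e, he, r | r⟩ := h.Q_cases hαQ ht hto
  · subst r
    have hc : ∀ y ∈ E, Commute e y := fun y hy => mul_inv_eq_iff_eq_mul.1 (hfix y hy)
    have hte : (MulAut.conj c * φ) e = e := conj_inj h.center_eq (by
      rw [← aut_conj, Subgroup.mem_centralizer_iff.1 hα _ ht]; group)
    rcases h.core.center e he hc with u | u | u | u <;> subst u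
    · exact h.jEq _ (Or.inl rfl)
    · exact absurd (hte.symm.trans hta).symm hba
    · exact absurd ((MulAut.conj c * φ).injective (hte.trans hta.symm)) hba
    · exact h.jEq _ (Or.inr rfl)
  · have := hfix a h.core.pair.1
    rw [r] at this
    change e * (MulAut.conj c * φ) a * e⁻¹ = a at this
    rw [hta, (h.core.le_fix e he).2] at this
    exact absurd this hba

theorem setup : LargeExtraspecial.Setup h.Q (MulAut.conj (a * b)) := by
  have hx := h.extraspecial
  refine ⟨hx, ?_, h.centralizer_eq, fun α hα => ?_⟩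
  · refine le_antisymm ?_ (Subgroup.zpowers_le.2 ⟨⟨_, h.z_mem_Q⟩, Subgroup.mem_center_iff.2 fun q =>
      Subtype.ext (h.z_commute q.2).eq.symm, rfl⟩)
    rintro _ ⟨x, hxc, rfl⟩
    rw [← h.centralizer_eq]
    exact Subgroup.mem_centralizer_iff.2 fun q hq => congrArg Subtype.val (Subgroup.mem_center_iff.1 hxc ⟨q, hq⟩)
  · rw [Subgroup.mem_normalizer_iff]
    exact fun q => ⟨h.Q_conj_mem hα, fun hq => by
      simpa [mul_assoc] using h.Q_conj_mem (inv_mem hα) hq⟩

theorem fitting_eq : Cfsg.generalizedFittingSubgroup ↥(CA a b) = h.act.ker := by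
  haveI : Fact (Nat.Prime 2) := ⟨Nat.prime_two⟩
  have hp : IsPGroup 2 h.act.ker :=
    h.Q_pGroup.of_injective (h.act.ker.equivMapOfInjective _ (CA a b).subtype_injective).toMonoidHom
      (h.act.ker.equivMapOfInjective _ (CA a b).subtype_injective).injective
  have hfit : Cfsg.fittingSubgroup ↥(CA a b) ≤ h.act.ker := by
    refine sSup_le fun N hN => ?_
    haveI := hN.1
    have h' := autGraph_nilpotent_normal (N := N.map h.act) (Subgroup.Normal.map inferInstance _ h.act_surj)
      (Fitting.isNilpotent_map h.act hN.2)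
    exact (Subgroup.map_eq_bot_iff _).1 h'
  refine le_antisymm (sup_le (sSup_le fun L hL => ?_) hfit) ?_
  · rcases Components.component_le_or_commutator_eq_bot_of_normal hL h.act.ker with h' | h'
    · exact h'
    · intro l hl
      rw [Subgroup.commutator_eq_bot_iff_le_centralizer] at h'
      have hc : (l : MulAut G) ∈ Subgroup.centralizer (h.Q : Set (MulAut G)) := by
        rw [Subgroup.mem_centralizer_iff]
        rintro _ ⟨z, hz, rfl⟩
        exact congrArg Subtype.val (Subgroup.mem_centralizer_iff.1 (h' hl) z hz)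
      rw [h.centralizer_eq] at hc
      have hlQ : (l : MulAut G) ∈ h.Q := Subgroup.zpowers_le.2 h.z_mem_Q hc
      obtain ⟨_, hh⟩ := h.mem_Q.1 hlQ
      exact hh
  · refine le_trans ?_ Components.fitting_le_generalizedFitting
    exact le_sSup ⟨inferInstance, hp.isNilpotent⟩

end PairAut

end Cfsg.Agent.TT95.Out22
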