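import Cfsg.Agent.TT95.Out22.AutPair

/-!
Type M(22): the action of the centraliser of a pair product in the automorphism group on the keys; its kernel.
-/

set_option autoImplicit false
set_option linter.unusedSectionVars false
set_option linter.style.haveILetI false

namespace Cfsg.Agent.TT95.Out22

open Cfsg.Agent.TT95 Cfsg.Agent.TT95.U6 Cfsg.Agent.TT95.K45G Cfsg.Agent.TT95.Uni22

variable {G : Type*} [Group G]

/-- The centraliser of the inner automorphism of the product. -/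
abbrev CA (a b : G) : Subgroup (MulAut G) := Subgroup.centralizer ({MulAut.conj (a * b)} : Set (MulAut G))

/-- An automorphism fixing the product acts on keys as a given permutation. -/
def Rel {a b : G} (Ψ : pairStab a b →* autGraph) (α : MulAut G) (σ : autGraph) : Prop :=
  ∀ (g : pairStab a b) (hg : α g ∈ pairStab a b), Ψ ⟨α g, hg⟩ = σ * Ψ g * σ⁻¹

namespace PairAut

variable [Finite G] {D : Set G} {a b : G} {γ : ℕ → G} {Ψ : pairStab a b →* autGraph} {φ : MulAut G}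
  {π : autGraph} (h : PairAut (D := D) a b γ Ψ φ π)

include h

theorem center_eq : Subgroup.center G = ⊥ := h.cfg.center

theorem mem_ca {α : MulAut G} : α ∈ CA a b ↔ α (a * b) = a * b := mem_CA h.center_eq

theorem conj_mem_ca {g : G} : MulAut.conj g ∈ CA a b ↔ g ∈ pairStab a b := by
  rw [h.mem_ca, h.mem_stab]
  rfl

theorem phi_mem : φ ∈ CA a b := h.mem_ca.2 h.phiJ

theorem decomp {α : MulAut G} (hα : α ∈ CA a b) :
    ∃ g ∈ pairStab a b, α = MulAut.conj g ∨ α = MulAut.conj g * φ := by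
  haveI := h.gen
  by_cases hin : IsInner α
  · obtain ⟨g, rfl⟩ := hin
    exact ⟨g, h.conj_mem_ca.1 hα, Or.inl rfl⟩
  · obtain ⟨g, hg⟩ := two_outer22 h.cfg h.memA (fun x => h.pres α x) (fun x => h.pres φ x) hin h.phi_not_inner
    refine ⟨g, h.conj_mem_ca.1 ?_, Or.inr (by rw [hg, inv_mul_cancel_right])⟩
    rw [hg]
    exact mul_mem hα (inv_mem h.phi_mem)

theorem rel_unique {α : MulAut G} (hα : α ∈ CA a b) {σ τ : autGraph} (h1 : Rel Ψ α σ) (h2 : Rel Ψ α τ) : σ = τ := by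
  have hc : τ⁻¹ * σ = 1 := by
    rw [← Subgroup.mem_bot, ← autGraph_center, Subgroup.mem_center_iff]
    intro x
    obtain ⟨g, rfl⟩ := h.surj x
    have hm := h.move (h.mem_ca.1 hα) g.2
    have e : σ * Ψ g * σ⁻¹ = τ * Ψ g * τ⁻¹ := (h1 g hm).symm.trans (h2 g hm)
    calc Ψ g * (τ⁻¹ * σ) = τ⁻¹ * (τ * Ψ g * τ⁻¹) * σ := by group
      _ = τ⁻¹ * (σ * Ψ g * σ⁻¹) * σ := by rw [e]
      _ = τ⁻¹ * σ * Ψ g := by group
  exact (inv_mul_eq_one.1 hc).symm

theorem rel_conj {g : G} (hg : g ∈ pairStab a b) : Rel Ψ (MulAut.conj g) (Ψ ⟨g, hg⟩) := by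
  intro x hx
  rw [← map_inv, ← map_mul, ← map_mul]
  exact congrArg Ψ (Subtype.ext rfl)

theorem rel_phi : Rel Ψ φ π := fun g hg => by rw [← h.twist g hg, mul_inv_cancel_right]

theorem rel_mul {α β : MulAut G} (hβ : β ∈ CA a b) {σ τ : autGraph} (h1 : Rel Ψ α σ) (h2 : Rel Ψ β τ) :
    Rel Ψ (α * β) (σ * τ) := by
  intro g hg
  have hm := h.move (h.mem_ca.1 hβ) g.2
  have e1 := h1 ⟨β g, hm⟩ hg
  rw [h2 g hm] at e1
  refine e1.trans ?_
  group

theorem exists_rel (α : CA a b) : ∃ σ, Rel Ψ α.1 σ := by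
  obtain ⟨g, hg, e | e⟩ := h.decomp α.2
  · exact ⟨_, e ▸ h.rel_conj hg⟩
  · exact ⟨_, e ▸ h.rel_mul h.phi_mem (h.rel_conj hg) h.rel_phi⟩

/-- The action on keys. -/
noncomputable def act : CA a b →* autGraph :=
  MonoidHom.mk' (fun α => Classical.choose (h.exists_rel α)) fun α β =>
    h.rel_unique (α * β).2 (Classical.choose_spec (h.exists_rel (α * β)))
      (h.rel_mul β.2 (Classical.choose_spec (h.exists_rel α)) (Classical.choose_spec (h.exists_rel β)))

theorem act_eq {α : CA a b} {σ : autGraph} (hσ : Rel Ψ α.1 σ) : h.act α = σ :=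
  h.rel_unique α.2 (Classical.choose_spec (h.exists_rel α)) hσ

theorem act_conj {g : G} (hg : g ∈ pairStab a b) :
    h.act ⟨MulAut.conj g, h.conj_mem_ca.2 hg⟩ = Ψ ⟨g, hg⟩ := h.act_eq (h.rel_conj hg)

theorem act_surj : Function.Surjective h.act := fun σ => by
  obtain ⟨g, rfl⟩ := h.surj σ
  exact ⟨⟨MulAut.conj (g : G), h.conj_mem_ca.2 g.2⟩, h.act_conj g.2⟩

theorem act_conj_phi {g : G} (hg : g ∈ pairStab a b) :
    h.act ⟨MulAut.conj g * φ, mul_mem (h.conj_mem_ca.2 hg) h.phi_mem⟩ = Ψ ⟨g, hg⟩ * π :=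
  h.act_eq (h.rel_mul h.phi_mem (h.rel_conj hg) h.rel_phi)

/-- The kernel as a subgroup of the automorphism group. -/
noncomputable def Q : Subgroup (MulAut G) := h.act.ker.map (CA a b).subtype

theorem mem_Q {α : MulAut G} : α ∈ h.Q ↔ ∃ hα : α ∈ CA a b, h.act ⟨α, hα⟩ = 1 := by
  constructor
  · rintro ⟨x, hx, rfl⟩; exact ⟨x.2, hx⟩
  · rintro ⟨hα, hx⟩; exact ⟨⟨α, hα⟩, hx, rfl⟩

theorem Q_le : h.Q ≤ CA a b := Subgroup.map_subtype_le _

theorem conj_mem_Q {x : G} : MulAut.conj x ∈ h.Q ↔ x ∈ Ψ.ker.map (pairStab a b).subtype := by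
  rw [h.mem_Q]
  constructor
  · rintro ⟨hα, hx⟩
    have hxP := h.conj_mem_ca.1 hα
    rw [h.act_conj hxP] at hx
    exact ⟨⟨x, hxP⟩, hx, rfl⟩
  · rintro ⟨z, hz, rfl⟩
    refine ⟨h.conj_mem_ca.2 z.2, ?_⟩
    rw [h.act_conj]
    exact hz

theorem Q_conj_mem {α q : MulAut G} (hα : α ∈ CA a b) (hq : q ∈ h.Q) : α * q * α⁻¹ ∈ h.Q := by
  obtain ⟨z, hz, rfl⟩ := hq
  exact ⟨_, (MonoidHom.normal_ker h.act).conj_mem z hz ⟨α, hα⟩, rfl⟩

/-- The outer part of the kernel exchanges the pair. -/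
theorem exists_swap : ∃ c : G, c ∈ pairStab a b ∧ MulAut.conj c * φ ∈ h.Q ∧
    (MulAut.conj c * φ) a = b ∧ ¬ IsInner (MulAut.conj c * φ) := by
  obtain ⟨c, hc⟩ := h.surj π⁻¹
  refine ⟨c, c.2, h.mem_Q.2 ⟨mul_mem (h.conj_mem_ca.2 c.2) h.phi_mem, ?_⟩, ?_, ?_⟩
  · rw [h.act_conj_phi c.2, show (⟨(c : G), c.2⟩ : pairStab a b) = c from rfl, hc, inv_mul_cancel]
  · show (c : G) * φ a * (c : G)⁻¹ = b
    rw [h.phiA]
    rcases c.2 with ⟨e, -⟩ | ⟨e, -⟩
    · have := (h.fix_even_iff c).1 e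
      rw [hc, map_inv, h.odd] at this
      exact absurd this (by decide)
    · exact e
  · rintro ⟨g, hg⟩
    exact h.phi_not_inner ⟨(c : G)⁻¹ * g, by rw [map_mul, map_inv, hg]; group⟩

/-- The kernel consists of two cosets. -/
theorem Q_cases {q : MulAut G} (hq : q ∈ h.Q) {t : MulAut G} (ht : t ∈ h.Q) (hto : ¬ IsInner t) :
    ∃ e ∈ Ψ.ker.map (pairStab a b).subtype, q = MulAut.conj e ∨ q = MulAut.conj e * t := by
  haveI := h.gen
  by_cases hin : IsInner q
  · obtain ⟨e, rfl⟩ := hin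
    exact ⟨e, h.conj_mem_Q.1 hq, Or.inl rfl⟩
  · obtain ⟨e, he⟩ := two_outer22 h.cfg h.memA (fun x => h.pres q x) (fun x => h.pres t x) hin hto
    refine ⟨e, h.conj_mem_Q.1 ?_, Or.inr (by rw [he, inv_mul_cancel_right])⟩
    rw [he]
    exact mul_mem hq (inv_mem ht)

theorem card_Q : Nat.card h.Q = 2 ^ 11 := by
  classical
  obtain ⟨c, -, ht, -, hto⟩ := h.exists_swap
  set t := MulAut.conj c * φ
  set E := Ψ.ker.map (pairStab a b).subtype
  have hinj := conj_inj h.center_eq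
  set f : Bool × E → h.Q := fun p =>
    if p.1 then ⟨MulAut.conj (p.2 : G) * t, mul_mem (h.conj_mem_Q.2 p.2.2) ht⟩
    else ⟨MulAut.conj (p.2 : G), h.conj_mem_Q.2 p.2.2⟩ with hf
  have hno : ∀ x y : G, MulAut.conj x * t ≠ MulAut.conj y := fun x y e => hto ⟨x⁻¹ * y, by
    rw [map_mul, map_inv, ← e]; group⟩
  have hbij : Function.Bijective f := by
    constructor
    · rintro ⟨i, x⟩ ⟨k, y⟩ e
      have e' := congrArg Subtype.val e
      cases i <;> cases k <;> simp only [hf, if_true, Bool.false_eq_true, if_false] at e'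
      · exact Prod.ext rfl (Subtype.ext (hinj e'))
      · exact absurd e'.symm (hno _ _)
      · exact absurd e' (hno _ _)
      · exact Prod.ext rfl (Subtype.ext (hinj (mul_right_cancel e')))
    · rintro ⟨q, hq⟩
      obtain ⟨e, he, rfl | rfl⟩ := h.Q_cases hq ht hto
      · exact ⟨⟨false, ⟨e, he⟩⟩, by simp [hf]⟩
      · exact ⟨⟨true, ⟨e, he⟩⟩, by simp [hf]⟩
  rw [← Nat.card_congr (Equiv.ofBijective f hbij), Nat.card_prod, Nat.card_eq_fintype_card, Fintype.card_bool,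
    h.core.card]
  norm_num

theorem Q_pGroup : IsPGroup 2 h.Q := by
  haveI : Fact (Nat.Prime 2) := ⟨Nat.prime_two⟩
  exact IsPGroup.of_card h.card_Q

theorem move_E {q : MulAut G} (hq : q ∈ CA a b) {e : G} (he : e ∈ Ψ.ker.map (pairStab a b).subtype) :
    q e ∈ Ψ.ker.map (pairStab a b).subtype := by
  rw [← h.conj_mem_Q, ← aut_conj]
  exact h.Q_conj_mem hq (h.conj_mem_Q.2 he)

theorem inv_four {x : G} (hx : x = 1 ∨ x = a ∨ x = b ∨ x = a * b) :
    ∀ g ∈ Ψ.ker.map (pairStab a b).subtype, g * x * g⁻¹ = x := by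
  intro g hg
  obtain ⟨h1, h2⟩ := h.core.le_fix g hg
  rcases hx with e | e | e | e <;> subst x
  · group
  · exact h1
  · exact h2
  · rw [show g * (a * b) * g⁻¹ = g * a * g⁻¹ * (g * b * g⁻¹) by group, h1, h2]

/-- The kernel moves each element within its coset of the pair. -/
theorem commutator_four {q : MulAut G} (hq : q ∈ h.Q) {e : G} (he : e ∈ Ψ.ker.map (pairStab a b).subtype) :
    e⁻¹ * q e = 1 ∨ e⁻¹ * q e = a ∨ e⁻¹ * q e = b ∨ e⁻¹ * q e = a * b := by
  classical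
  haveI := h.gen
  haveI : Fact (Nat.Prime 2) := ⟨Nat.prime_two⟩
  obtain ⟨hbD, hba, hab⟩ := h.memB
  set E := Ψ.ker.map (pairStab a b).subtype
  set V : Subgroup G := Subgroup.closure {a, b}
  have hVE : V ≤ E := (Subgroup.closure_le _).2 (by rintro x (rfl | rfl); exacts [h.core.pair.1, h.core.pair.2])
  have hVfix : ∀ v ∈ V, ∀ g ∈ E, g * v * g⁻¹ = v := by
    intro v hv g hg
    induction hv using Subgroup.closure_induction with
    | mem x hx =>
      rcases hx with rfl | rfl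
      exacts [h.inv_four (Or.inr (Or.inl rfl)) g hg, h.inv_four (Or.inr (Or.inr (Or.inl rfl))) g hg]
    | one => group
    | mul x y _ _ ex ey => rw [show g * (x * y) * g⁻¹ = g * x * g⁻¹ * (g * y * g⁻¹) by group, ex, ey]
    | inv x _ ex => rw [show g * x⁻¹ * g⁻¹ = (g * x * g⁻¹)⁻¹ by group, ex]
  have hVfour : ∀ v ∈ V, v = 1 ∨ v = a ∨ v = b ∨ v = a * b := fun v hv =>
    h.core.center v (hVE hv) fun y hy => (mul_inv_eq_iff_eq_mul.1 (hVfix v hv y hy)).symm
  have hqV : ∀ α : MulAut G, α ∈ CA a b → ∀ v ∈ V, α v ∈ V := by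
    intro α hα v hv
    induction hv using Subgroup.closure_induction with
    | mem x hx =>
      rcases h.pair (h.mem_ca.1 hα) with ⟨e1', e2'⟩ | ⟨e1', e2'⟩ <;> rcases hx with rfl | rfl <;>
        simp only [e1', e2'] <;> first
          | exact Subgroup.subset_closure (Or.inl rfl)
          | exact Subgroup.subset_closure (Or.inr rfl)
    | one => simp
    | mul x y _ _ ex ey => rw [map_mul]; exact mul_mem ex ey
    | inv x _ ex => rw [map_inv]; exact inv_mem ex
  set V' := V.subgroupOf E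
  haveI : V'.Normal := ⟨fun x hx g => by
    rw [Subgroup.mem_subgroupOf] at hx ⊢
    rw [Subgroup.coe_mul, Subgroup.coe_mul, Subgroup.coe_inv, hVfix _ hx _ g.2]
    exact hx⟩
  -- the kernel acts on the quotient
  letI : MulAction h.Q (E ⧸ V') :=
    { smul := fun q => Quotient.map' (fun e => ⟨q.1 e, h.move_E (h.Q_le q.2) e.2⟩) (fun x y hxy => by
        rw [QuotientGroup.leftRel_apply, Subgroup.mem_subgroupOf] at hxy ⊢
        simpa using hqV q.1 (h.Q_le q.2) _ hxy)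
      one_smul := fun x => by
        obtain ⟨e, rfl⟩ := QuotientGroup.mk_surjective x
        rfl
      mul_smul := fun p q x => by
        obtain ⟨e, rfl⟩ := QuotientGroup.mk_surjective x
        rfl }
  have hcardV : Nat.card V' = 4 := by
    rw [Nat.card_congr (Subgroup.subgroupOfEquivOfLe hVE).toEquiv]
    exact le_antisymm (card_le_four h.cfg h.memA h.loc h.base h.surj h.spec h.core h.odd hVfour)
      (four_le_card h.cfg h.memA h.loc h.base h.surj h.spec h.core h.odd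
        (Subgroup.subset_closure (Or.inl rfl)) (Subgroup.subset_closure (Or.inr rfl)))
  have h2 : 2 ∣ Nat.card (E ⧸ V') := by
    have h' := Subgroup.card_eq_card_quotient_mul_card_subgroup V'
    rw [h.core.card, hcardV] at h'
    omega
  obtain ⟨x, hx, hx1⟩ := h.Q_pGroup.exists_fixed_point_of_prime_dvd_card_of_fixed_point (E ⧸ V') h2
    (a := QuotientGroup.mk 1) (fun q => by
      show QuotientGroup.mk _ = QuotientGroup.mk _
      exact congrArg _ (Subtype.ext (map_one q.1)))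
  obtain ⟨w, rfl⟩ := QuotientGroup.mk_surjective x
  have hwV : (w : G) ∉ V := fun hw => hx1 (QuotientGroup.eq.2 (by
    rw [inv_one, one_mul, Subgroup.mem_subgroupOf]; exact hw))
  have hwfix : ∀ q ∈ h.Q, (w : G)⁻¹ * q w ∈ V := fun q hq => by
    have e1' : (QuotientGroup.mk w : E ⧸ V') = QuotientGroup.mk ⟨q w, h.move_E (h.Q_le hq) w.2⟩ := (hx ⟨q, hq⟩).symm
    have h4 := QuotientGroup.eq.1 e1'
    exact h4
  set S : Set G := {a, b} ∪ {x | ∃ q ∈ h.Q, ∃ e ∈ E, x = e⁻¹ * q e}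
  set W := Subgroup.closure S
  have hWC : W ≤ E ⊓ Subgroup.centralizer {(w : G)} := by
    rw [Subgroup.closure_le]
    rintro y ((rfl | rfl) | ⟨q, hq, e, he, rfl⟩)
    · exact ⟨h.core.pair.1, Subgroup.mem_centralizer_singleton_iff.2
        (mul_inv_eq_iff_eq_mul.1 (h.inv_four (Or.inr (Or.inl rfl)) _ w.2)).symm⟩
    · exact ⟨h.core.pair.2, Subgroup.mem_centralizer_singleton_iff.2
        (mul_inv_eq_iff_eq_mul.1 (h.inv_four (Or.inr (Or.inr (Or.inl rfl))) _ w.2)).symm⟩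
    refine ⟨E.mul_mem (E.inv_mem he) (h.move_E (h.Q_le hq) he), Subgroup.mem_centralizer_singleton_iff.2 ?_⟩
    obtain ⟨v, hv, hqw⟩ : ∃ v ∈ V, q w = w * v := ⟨_, hwfix q hq, by group⟩
    have hqe := h.move_E (h.Q_le hq) he
    have hcqe : v * q e = q e * v := (mul_inv_eq_iff_eq_mul.1 (hVfix v hv _ hqe)).symm
    -- the commutator of e with w is fixed
    have hfix : q (e * w * e⁻¹ * (w : G)⁻¹) = e * w * e⁻¹ * (w : G)⁻¹ := by
      rcases h.core.comm e he w w.2 with e' | e' <;> rw [e']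
      · exact map_one q
      · exact h.mem_ca.1 (h.Q_le hq)
    rw [map_mul, map_mul, map_mul, map_inv, map_inv, hqw] at hfix
    have h3 : q e * (w : G) * (q e)⁻¹ = e * w * e⁻¹ := by
      rw [mul_inv_rev, show q e * ((w : G) * v) * (q e)⁻¹ * (v⁻¹ * (w : G)⁻¹) =
        q e * w * ((v * (q e)⁻¹ * v⁻¹)) * (w : G)⁻¹ by group,
        show v * (q e)⁻¹ * v⁻¹ = (q e)⁻¹ from by
          rw [mul_inv_eq_iff_eq_mul]
          calc v * (q e)⁻¹ = (q e)⁻¹ * (q e * v) * (q e)⁻¹ := by group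
            _ = (q e)⁻¹ * v := by rw [← hcqe]; group] at hfix
      exact mul_right_cancel hfix
    calc e⁻¹ * q e * (w : G) = e⁻¹ * (q e * w * (q e)⁻¹) * q e := by group
      _ = (w : G) * (e⁻¹ * q e) := by rw [h3]; group
  have hinv : ∀ g ∈ pairStab a b, ∀ y ∈ W, g * y * g⁻¹ ∈ W := by
    intro g hg y hy
    induction hy using Subgroup.closure_induction with
    | mem y hy =>
      rcases hy with hy | ⟨q, hq, e, he, rfl⟩
      · rcases hg with ⟨e1', e2'⟩ | ⟨e1', e2'⟩ <;> rcases hy with rfl | rfl <;> simp only [e1', e2'] <;> first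
          | exact Subgroup.subset_closure (Or.inl (Or.inl rfl))
          | exact Subgroup.subset_closure (Or.inl (Or.inr rfl))
      · refine Subgroup.subset_closure (Or.inr ⟨MulAut.conj g * q * (MulAut.conj g)⁻¹,
          h.Q_conj_mem (h.conj_mem_ca.2 hg) hq, g * e * g⁻¹,
          conj_mem_ker h.cfg h.memA h.loc h.base h.surj h.spec h.core hg he, ?_⟩)
        show g * (e⁻¹ * q e) * g⁻¹ = (g * e * g⁻¹)⁻¹ * (g * q (g⁻¹ * (g * e * g⁻¹) * g) * g⁻¹)
        rw [show g⁻¹ * (g * e * g⁻¹) * g = e by group]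
        group
    | one => simp
    | mul x y _ _ ex ey => rw [show g * (x * y) * g⁻¹ = g * x * g⁻¹ * (g * y * g⁻¹) by group]; exact mul_mem ex ey
    | inv x _ ex => rw [show g * x⁻¹ * g⁻¹ = (g * x * g⁻¹)⁻¹ by group]; exact inv_mem ex
  rcases invariant_cases h.cfg h.memA h.loc h.base h.surj h.spec h.core h.odd (hWC.trans inf_le_left)
    (Subgroup.subset_closure (Or.inl (Or.inl rfl))) (Subgroup.subset_closure (Or.inl (Or.inr rfl))) hinv
    with hh | hh
  · exact hh _ (Subgroup.subset_closure (Or.inr ⟨q, hq, e, he, rfl⟩))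
  · exfalso
    have hcomm : ∀ y ∈ E, Commute (w : G) y := fun y hy =>
      ((Subgroup.mem_centralizer_singleton_iff.1 (hWC (hh.ge hy)).2)).symm
    refine hwV ?_
    rcases h.core.center w w.2 hcomm with e' | e' | e' | e' <;> rw [e']
    exacts [one_mem _, Subgroup.subset_closure (Or.inl rfl), Subgroup.subset_closure (Or.inr rfl),
      mul_mem (Subgroup.subset_closure (Or.inl rfl)) (Subgroup.subset_closure (Or.inr rfl))]

end PairAut

end Cfsg.Agent.TT95.Out22
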