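import Cfsg.Agent.TT95.K45.Keys
import Cfsg.Agent.TT95.Uni22.Check

/-!
The field automorphism on the coded points, and its action on the 45 keys.
-/

set_option autoImplicit false

namespace Cfsg.Agent.TT95.Out22

open Cfsg.Agent.TT95.U6 Cfsg.Agent.TT95.Uni22 Cfsg.Agent.TT95.K45G

/-- Conjugation of all digits. -/
def sig (x : ℕ) : ℕ := Nat.xor x (Nat.shiftRight (Nat.land x 2730) 1)

/-- Conjugation after a power of the diagonal automorphism. -/
def tau (m x : ℕ) : ℕ := sig (psiK m x)

/-- The permutation of the indices induced by `tau`. -/
def piL (m : ℕ) : List ℕ := (List.range 45).map fun i => keyList.idxOf (key (tau m (kv i)))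

theorem sig_pt_check : allP (fun x => isPt (sig x) && Nat.beq (sig (sig x)) x) pts = true := by decide +kernel

theorem sig_orth_check : allP (fun x => allP (fun y => orth (sig x) (sig y) == orth x y) pts) pts = true := by
  decide +kernel

theorem sig_tv_check : allP (fun e => allP (fun x => Nat.beq (sig (tv e x)) (tv (sig e) (sig x))) pts) pts = true := by
  decide +kernel

theorem tau_check : allP (fun m => allP (fun x => Nat.beq x e1 ||
      (inRes (tau m x) && Nat.beq (key (tau m x)) (key (tau m (key x))))) perp1 &&
      Nat.beq (tau m e1) e1 && autOK (piL m) &&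
      allP (fun i => Nat.beq (kv (apL (piL m) i)) (key (tau m (kv i)))) (List.range 45)) [0, 1, 2] = true := by
  decide +kernel

end Cfsg.Agent.TT95.Out22
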