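import Cfsg.Agent.TT95.PairFit

/-!
Type M(22): the key action of the stabiliser of a pair evaluated at any point, and the products of two
points with the same key.
-/

set_option autoImplicit false
set_option linter.unusedSectionVars false

namespace Cfsg.Agent.TT95.Out22

open Cfsg.Agent.TT95 Cfsg.Agent.TT95.U6 Cfsg.Agent.TT95.K45G

variable {G : Type*} [Group G] [Finite G] {D : Set G} (hC : Cfg22 D) [Gen D] {a b : G} (ha : a ∈ D)
  {γ : ℕ → G} (hγ : IsLocal D a γ) (hb : γ e1 = b)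

include hC ha hγ hb

theorem isR_kv (i : Fin 45) : isR (kv i) ∧ key (kv i) = kv i := by
  obtain ⟨e, he⟩ := exists_index
  exact he i ▸ isR_key (e i).2

theorem kv_inj {i j : Fin 45} (h : kv i = kv j) : i = j := by
  obtain ⟨e, he⟩ := exists_index
  exact e.injective (Subtype.ext (by rw [he, he, h]))

theorem exists_kv {x : ℕ} (hx : isR x) : ∃ i : Fin 45, kv i = key x := by
  obtain ⟨e, he⟩ := exists_index
  exact ⟨e.symm ⟨key x, key_mem hx⟩, by rw [← he, Equiv.apply_symm_apply]⟩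

/-- Points with the same key go to points with the same key. -/
theorem key_move {g : G} (hg : g ∈ pairStab a b) {x x' y y' : ℕ} (hx : isR x) (hx' : isR x') (hy : isR y)
    (hy' : isR y') (ey : γ y = g * γ x * g⁻¹) (ey' : γ y' = g * γ x' * g⁻¹) (h : key x = key x') :
    key y = key y' := by
  rw [key_eq_iff hC ha hγ hb hy hy', ey, ey']
  intro z hz hza hzb
  have hh := (key_eq_iff hC ha hγ hb hx hx').1 h
  have hz' : g⁻¹ * z * g ∈ D := by simpa using conj_mem hC.tt g⁻¹ hz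
  have hc : ∀ u, Commute (g⁻¹ * z * g) u ↔ Commute z (g * u * g⁻¹) := fun u => by
    rw [← Commute.conj_iff g, show g * (g⁻¹ * z * g) * g⁻¹ = z by group]
  rw [← hc, ← hc]
  refine hh _ hz' ?_ ?_
  all_goals
    rw [hc]
    rcases hg with ⟨h1, h2⟩ | ⟨h1, h2⟩
  · rwa [h1]
  · rwa [h1]
  · rwa [h2]
  · rwa [h2]

variable {Ψ : pairStab a b →* autGraph}
  (hspec : ∀ (g : pairStab a b) (i : Fin 45) (y : ℕ), isR y → γ y = (g : G) * γ (kv i) * (g : G)⁻¹ →
    kv (((Ψ g).1 i : Fin 45) : ℕ) = key y)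

include hspec

theorem spec_gen (g : pairStab a b) (i : Fin 45) {x y : ℕ} (hx : isR x) (hkx : key x = kv i) (hy : isR y)
    (ey : γ y = (g : G) * γ x * (g : G)⁻¹) : kv (((Ψ g).1 i : Fin 45) : ℕ) = key y := by
  obtain ⟨hk, hkk⟩ := isR_kv hC ha hγ hb i
  obtain ⟨z, hz, ez⟩ := pair_move hC ha hγ hb g.2 hk
  rw [hspec g i z hz ez]
  exact key_move hC ha hγ hb g.2 hk hx hz hy ez ey (hkk.trans hkx.symm)

/-- Two points with one key act in the same way. -/
theorem psi_eq_of_key {p q : ℕ} (hp : isR p) (hq : isR q) (h : key p = key q) :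
    Ψ ⟨γ p, gen_mem hC ha hγ hb hp⟩ = Ψ ⟨γ q, gen_mem hC ha hγ hb hq⟩ := by
  refine Subtype.ext (Equiv.ext fun i => kv_inj hC ha hγ hb ?_)
  obtain ⟨hk, -⟩ := isR_kv hC ha hγ hb i
  have hm : ∀ {u}, isR u → isR (tv u (kv i)) := fun {u} hu => by
    obtain ⟨y, hy, ey⟩ := pair_move hC ha hγ hb (gen_mem hC ha hγ hb hu) hk
    have := hγ.inj _ _ hy.1 (hγ.isPt_tv _ _ hu.1 hk.1) (ey.trans (hγ.conj _ _ hu.1 hk.1))
    rwa [← this]
  rw [hspec ⟨γ p, _⟩ i (tv p (kv i)) (hm hp) (hγ.conj _ _ hp.1 hk.1).symm,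
    hspec ⟨γ q, _⟩ i (tv q (kv i)) (hm hq) (hγ.conj _ _ hq.1 hk.1).symm]
  exact tv_key_congr hp hq h hk

theorem mul_mem_ker {p q : ℕ} (hp : isR p) (hq : isR q) (h : key p = key q) :
    γ p * γ q ∈ Ψ.ker.map (pairStab a b).subtype := by
  refine ⟨⟨γ p, gen_mem hC ha hγ hb hp⟩ * ⟨γ q, gen_mem hC ha hγ hb hq⟩, ?_, rfl⟩
  show Ψ _ = 1
  rw [map_mul, psi_eq_of_key hC ha hγ hb hspec hp hq h, ← map_mul,
    show (⟨γ q, gen_mem hC ha hγ hb hq⟩ : pairStab a b) * ⟨γ q, _⟩ = 1 from Subtype.ext (sq hC.tt (hγ.mem _ hq.1).1),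
    map_one]

end Cfsg.Agent.TT95.Out22
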