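import Cfsg.Agent.TT95.K45.AutPSU4
import Cfsg.Agent.TT95.Out22.KeyLemmas

/-!
Normal subgroups of the automorphism group of the graph on 45 keys; transvections act evenly.
-/

set_option autoImplicit false
set_option linter.unusedSectionVars false
set_option linter.style.haveILetI false

namespace Cfsg.Agent.TT95.Out22

open Cfsg.Agent.TT95 Cfsg.Agent.TT95.U6 Cfsg.Agent.TT95.K45G

theorem even_check : allP (fun p => Nat.beq p e1 || Nat.beq
    (((Finset.univ : Finset (Fin 45)).filter fun i : Fin 45 => Nat.beq (key (tv p (kv i))) (kv i) = true).card % 4) 1)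
    perp1 = true := by
  decide +kernel

theorem card_mulAut_dvd_GL {T : Type*} [CommGroup T] [Finite T] (h2 : ∀ t : T, t ^ 2 = 1) {n : ℕ}
    (hc : Nat.card T = 2 ^ n) : Nat.card (MulAut T) ∣ Nat.card (GL (Fin n) (ZMod 2)) := by
  letI : Module (ZMod 2) (Additive T) := AddCommGroup.zmodModule fun x => h2 x.toMul
  have hd : Module.finrank (ZMod 2) (Additive T) = n := by
    have h := Module.natCard_eq_pow_finrank (K := ZMod 2) (V := Additive T)
    rw [Nat.card_zmod, show Nat.card (Additive T) = Nat.card T from rfl, hc] at h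
    exact (Nat.pow_right_injective (le_refl 2) h).symm
  let b := Module.finBasisOfFinrankEq (ZMod 2) (Additive T) hd
  let f : MulAut T →* Module.End (ZMod 2) (Additive T) :=
    { toFun := fun a => (MonoidHom.toAdditive a.toMonoidHom).toZModLinearMap 2
      map_one' := LinearMap.ext fun _ => rfl
      map_mul' := fun _ _ => LinearMap.ext fun _ => rfl }
  let m : Module.End (ZMod 2) (Additive T) →* Matrix (Fin n) (Fin n) (ZMod 2) :=
    (LinearMap.toMatrixAlgEquiv b).toAlgHom.toRingHom.toMonoidHom
  refine Subgroup.card_dvd_of_injective ((m.comp f).toHomUnits) fun a a' h => ?_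
  have h1 : m (f a) = m (f a') := congrArg Units.val h
  have h2 : f a = f a' := (LinearMap.toMatrixAlgEquiv b).injective h1
  exact MulEquiv.ext fun t => Additive.ofMul.injective (LinearMap.congr_fun h2 (Additive.ofMul t))

theorem not_81_dvd_GL {n : ℕ} (hn : n ≤ 5) : ¬ 81 ∣ Nat.card (GL (Fin n) (ZMod 2)) := by
  rw [Matrix.card_GL_field, ZMod.card]
  interval_cases n <;> norm_num [Fin.prod_univ_succ]

/-- The centre is trivial. -/
theorem autGraph_center : Subgroup.center autGraph = ⊥ :=
  autGraph_nilpotent_normal inferInstance (by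
    letI : CommGroup (Subgroup.center autGraph) :=
      { (inferInstance : Group (Subgroup.center autGraph)) with
        mul_comm := fun x y => Subtype.ext (Subgroup.mem_center_iff.1 y.2 x) }
    exact CommGroup.isNilpotent)

/-- The sign as a homomorphism on the automorphisms of the graph. -/
noncomputable def gsign : autGraph →* ℤˣ := Equiv.Perm.sign.comp autGraph.subtype

/-- A non-trivial normal subgroup contains all even elements, once some element is odd. -/
theorem even_mem_normal {N : Subgroup autGraph} (hN : N.Normal) (hne : N ≠ ⊥) {π : autGraph}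
    (hπ : gsign π = -1) {σ : autGraph} (hσ : gsign σ = 1) : σ ∈ N := by
  classical
  haveI : Fact (Nat.Prime 2) := ⟨Nat.prime_two⟩
  haveI : Fintype (GaloisField 2 2) := Fintype.ofFinite _
  have h4 : Fintype.card (GaloisField 2 2) = 2 ^ 2 := by
    rw [← Nat.card_eq_fintype_card, GaloisField.card 2 2 (by norm_num)]
  obtain ⟨e⟩ := exists_iso_aut_psu4 h4
  set S := Cfsg.PSU 4 (GaloisField 2 2) 2 with hS
  haveI : IsSimpleGroup S :=
    Cfsg.Agent.Unitary.isSimpleGroup_PSU (n := 4) (q := 2) h4 (by norm_num) (by norm_num)
  let f : S →* autGraph := e.toMonoidHom.comp MulAut.conj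
  set N0 := f.range with hN0
  haveI hN0n : N0.Normal := by
    constructor
    rintro _ ⟨x, rfl⟩ g
    obtain ⟨α, rfl⟩ := e.surjective g
    refine ⟨α x, ?_⟩
    show e (MulAut.conj (α x)) = e α * e (MulAut.conj x) * (e α)⁻¹
    rw [← map_inv, ← map_mul, ← map_mul]
    congr 1
    ext y
    simp
  have hdisj : ∀ M : Subgroup autGraph, M.Normal → M ≠ ⊥ → N0 ≤ M := by
    intro M hM hMne
    haveI : (M.comap f).Normal := hM.comap f
    rcases Subgroup.Normal.eq_bot_or_eq_top (inferInstance : (M.comap f).Normal) with h | h
    · exfalso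
      -- M meets N0 trivially, so it embeds into the quotient of order at most 2
      refine hMne (autGraph_nilpotent_normal hM ?_)
      have hinf : ∀ m ∈ M, m ∈ N0 → m = 1 := by
        rintro m hm ⟨x, rfl⟩
        have : x ∈ M.comap f := hm
        rw [h, Subgroup.mem_bot] at this
        rw [this, map_one]
      have hN0card : 25920 ≤ Nat.card N0 := by
        have hinj : Function.Injective f := by
          refine e.injective.comp ((MonoidHom.ker_eq_bot_iff _).1 ?_)
          rcases Subgroup.Normal.eq_bot_or_eq_top
            (inferInstance : (MonoidHom.ker (MulAut.conj : S →* MulAut S)).Normal) with h' | h'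
          · exact h'
          · exfalso
            obtain ⟨x, hx⟩ := exists_ne (1 : S)
            have hall : ∀ x y : S, x * y = y * x := fun x y => by
              have := DFunLike.congr_fun (MonoidHom.mem_ker.1 (h' ▸ Subgroup.mem_top x)) y
              simpa [mul_inv_eq_iff_eq_mul] using this
            letI : CommGroup S := { (inferInstance : Group S) with mul_comm := hall }
            have hp := IsSimpleGroup.prime_card (α := S)
            rw [card_psu4 h4] at hp
            norm_num at hp
        rw [← card_psu4 h4, Nat.card_congr (MonoidHom.ofInjective hinj).toEquiv]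
      have hle : Nat.card M ≤ 2 := by
        have hinj : Function.Injective (fun g : M => (QuotientGroup.mk (g : autGraph) : autGraph ⧸ N0)) := by
          intro g k hgk
          have := hinf _ (SetLike.coe_mem (g⁻¹ * k)) (QuotientGroup.eq.1 hgk)
          rw [OneMemClass.coe_eq_one] at this
          exact inv_mul_eq_one.1 this
        refine (Nat.card_le_card_of_injective _ hinj).trans ?_
        have h' := Subgroup.card_eq_card_quotient_mul_card_subgroup N0
        rw [card_autGraph] at h'
        nlinarith
      rcases (Nat.le_succ_iff.1 hle) with h' | h'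
      · haveI : Subsingleton M := (Nat.card_eq_one_iff_unique.1 (le_antisymm h' Nat.card_pos)).1
        exact inferInstance
      · exact (IsPGroup.of_card (n := 1) (p := 2) (by simpa using h')).isNilpotent
    · rintro _ ⟨x, rfl⟩
      exact (h ▸ Subgroup.mem_top x : x ∈ M.comap f)
  refine hdisj N hN hne ?_
  -- the even part is exactly N0
  have hker : N0 ≤ gsign.ker := by
    refine hdisj gsign.ker inferInstance fun hb => ?_
    have hinj := (MonoidHom.ker_eq_bot_iff gsign).1 hb
    have := Nat.card_le_card_of_injective _ hinj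
    rw [card_autGraph, Nat.card_eq_fintype_card, Fintype.card_units_int] at this
    omega
  have hlt : Nat.card gsign.ker ≤ 25920 := by
    have h' := Subgroup.card_eq_card_quotient_mul_card_subgroup gsign.ker
    have h2 : 2 ≤ Nat.card (autGraph ⧸ gsign.ker) := by
      haveI : Nontrivial (autGraph ⧸ gsign.ker) := ⟨⟨QuotientGroup.mk π, 1, fun h0 => by
        rw [QuotientGroup.eq_one_iff, MonoidHom.mem_ker, hπ] at h0
        exact absurd h0 (by decide)⟩⟩
      exact Finite.one_lt_card
    rw [card_autGraph] at h'
    nlinarith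
  have hge : 25920 ≤ Nat.card N0 := by
    have hinj : Function.Injective (fun g : N0 => (g : autGraph)) := Subtype.val_injective
    have h' := Subgroup.card_eq_card_quotient_mul_card_subgroup (MulAut.conj : S →* MulAut S).range
    have hc := card_aut_psu4_le h4
    have heq : N0 = (MulAut.conj : S →* MulAut S).range.map e.toMonoidHom := by
      rw [hN0, MonoidHom.range_comp]
    rw [heq, ← Nat.card_congr (Subgroup.equivMapOfInjective _ _ e.injective).toEquiv]
    have hinj2 : Function.Injective (MulAut.conj : S →* MulAut S) := by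
      refine (MonoidHom.ker_eq_bot_iff _).1 ?_
      rcases Subgroup.Normal.eq_bot_or_eq_top
        (inferInstance : (MonoidHom.ker (MulAut.conj : S →* MulAut S)).Normal) with h'' | h''
      · exact h''
      · exfalso
        have hall : ∀ x y : S, x * y = y * x := fun x y => by
          have := DFunLike.congr_fun (MonoidHom.mem_ker.1 (h'' ▸ Subgroup.mem_top x)) y
          simpa [mul_inv_eq_iff_eq_mul] using this
        letI : CommGroup S := { (inferInstance : Group S) with mul_comm := hall }
        have hp := IsSimpleGroup.prime_card (α := S)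
        rw [card_psu4 h4] at hp
        norm_num at hp
    rw [← Nat.card_congr (MonoidHom.ofInjective hinj2).toEquiv, card_psu4 h4]
  rw [Subgroup.eq_of_le_of_card_ge hker (hlt.trans hge)]
  exact MonoidHom.mem_ker.2 hσ

variable {G : Type*} [Group G] [Finite G] {D : Set G} (hC : Cfg22 D) [Gen D] {a b : G} (ha : a ∈ D)
  {γ : ℕ → G} (hγ : IsLocal D a γ) (hb : γ e1 = b)

include hC ha hγ hb

/-- Transvections act evenly. -/
theorem gen_even {Ψ : pairStab a b →* autGraph}
    (hspec : ∀ (g : pairStab a b) (i : Fin 45) (y : ℕ), isR y → γ y = (g : G) * γ (kv i) * (g : G)⁻¹ →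
      kv (((Ψ g).1 i : Fin 45) : ℕ) = key y) {p : ℕ} (hp : isR p) :
    gsign (Ψ ⟨γ p, gen_mem hC ha hγ hb hp⟩) = 1 := by
  classical
  set σ := Ψ ⟨γ p, gen_mem hC ha hγ hb hp⟩ with hσ
  have hsq : σ * σ = 1 := by
    rw [hσ, ← map_mul, show (⟨γ p, gen_mem hC ha hγ hb hp⟩ : pairStab a b) * ⟨γ p, _⟩ = 1 from
      Subtype.ext (sq hC.tt (hγ.mem _ hp.1).1), map_one]
  have himg : ∀ i : Fin 45, kv ((σ.1 i : Fin 45) : ℕ) = key (tv p (kv i)) := fun i => by
    obtain ⟨hk, -⟩ := isR_kv hC ha hγ hb i
    obtain ⟨y, hy, ey⟩ := pair_move hC ha hγ hb (gen_mem hC ha hγ hb hp) hk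
    rw [hσ, hspec _ i y hy ey, hγ.inj _ _ hy.1 (hγ.isPt_tv _ _ hp.1 hk.1) (ey.trans (hγ.conj _ _ hp.1 hk.1))]
  have h := allP_iff.1 even_check p (mem_perp1 hp)
  rw [Bool.or_eq_true] at h
  have hf := Nat.eq_of_beq_eq_true (h.resolve_left fun e => hp.2.2 (Nat.eq_of_beq_eq_true e))
  have hset : (Finset.univ.filter fun x : Fin 45 => σ.1 x = x) =
      (Finset.univ : Finset (Fin 45)).filter fun i : Fin 45 => Nat.beq (key (tv p (kv i))) (kv i) = true := by
    ext i
    simp only [Finset.mem_filter, Finset.mem_univ, true_and]
    rw [← himg i]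
    constructor
    · intro e; rw [e]; exact Nat.beq_refl _
    · intro e; exact kv_inj hC ha hγ hb (Nat.eq_of_beq_eq_true e)
  set f := (Finset.univ.filter fun x : Fin 45 => σ.1 x = x).card with hfdef
  rw [← hset, ← hfdef] at hf
  have hle : f ≤ 45 := (Finset.card_filter_le _ _).trans (by simp)
  show Equiv.Perm.sign σ.1 = 1
  rw [sign_of_involution σ.1 (congrArg Subtype.val hsq) (2 * ((45 - f) / 4))
    (by rw [← hfdef, Fintype.card_fin]; omega), pow_mul, neg_one_sq, one_pow]

end Cfsg.Agent.TT95.Out22
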