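import Cfsg.Agent.TT95.Out22.PairModule
import Cfsg.Agent.TT95.InvolClasses

/-!
Type M(22): no subgroup strictly between the pair and the kernel is invariant under the stabiliser.
-/

set_option autoImplicit false
set_option linter.unusedSectionVars false
set_option linter.style.haveILetI false

namespace Cfsg.Agent.TT95.Out22

open Cfsg.Agent.TT95 Cfsg.Agent.TT95.U6 Cfsg.Agent.TT95.K45G

variable {G : Type*} [Group G] [Finite G] {D : Set G} (hC : Cfg22 D) [Gen D] {a b : G} (ha : a ∈ D)
  {γ : ℕ → G} (hγ : IsLocal D a γ) (hb : γ e1 = b) {Ψ : pairStab a b →* autGraph}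
  (hsurj : Function.Surjective Ψ)
  (hspec : ∀ (g : pairStab a b) (i : Fin 45) (y : ℕ), isR y → γ y = (g : G) * γ (kv i) * (g : G)⁻¹ →
    kv (((Ψ g).1 i : Fin 45) : ℕ) = key y)
  (hE : PairCore a b (Ψ.ker.map (pairStab a b).subtype)) {π : autGraph} (hπ : gsign π = -1)

include hC ha hγ hb hsurj hspec hE hπ

theorem four_card : ({1, a, b, a * b} : Set G).ncard = 4 := by
  have hD := hC.tt
  obtain ⟨hbD, hba, hab⟩ := b_mem hC ha hγ hb
  have hjone : a * b ≠ 1 := fun h => hba (by rw [eq_inv_of_mul_eq_one_left h, inv_eq hD hbD])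
  have h1 : a ≠ 1 := ne_one hD ha
  have h2 : b ≠ 1 := ne_one hD hbD
  have h3 : a * b ≠ a := fun h => h2 (mul_eq_left.1 h)
  have h5 : a * b ≠ b := fun h => h1 (mul_eq_right.1 h)
  rw [Set.ncard_insert_of_notMem (by simp [h1.symm, h2.symm, Ne.symm hjone]) (Set.toFinite _),
    Set.ncard_insert_of_notMem (by simp [hba.symm, h3.symm]) (Set.toFinite _),
    Set.ncard_pair h5.symm]

theorem four_le_card {W : Subgroup G} (haW : a ∈ W) (hbW : b ∈ W) : 4 ≤ Nat.card W := by
  rw [← four_card hC ha hγ hb hsurj hspec hE hπ, ← SetLike.coe_sort_coe, Nat.card_coe_set_eq]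
  refine Set.ncard_le_ncard ?_ (Set.toFinite _)
  intro z hz
  simp only [Set.mem_insert_iff, Set.mem_singleton_iff] at hz
  rcases hz with e | e | e | e <;> subst z
  exacts [one_mem _, haW, hbW, mul_mem haW hbW]

theorem card_le_four {W : Subgroup G} (h : ∀ w ∈ W, w = 1 ∨ w = a ∨ w = b ∨ w = a * b) : Nat.card W ≤ 4 := by
  rw [← four_card hC ha hγ hb hsurj hspec hE hπ, ← SetLike.coe_sort_coe, Nat.card_coe_set_eq]
  exact Set.ncard_le_ncard (fun w hw => by simpa using h w hw) (Set.toFinite _)

/-- The upper bound for centralisers in the kernel. -/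
theorem cent_upper : ∀ (n : ℕ) (W : Subgroup G), W ≤ Ψ.ker.map (pairStab a b).subtype →
    1024 ≤ Nat.card W + n → a ∈ W → b ∈ W →
    Nat.card (Ψ.ker.map (pairStab a b).subtype ⊓ Subgroup.centralizer (W : Set G) : Subgroup G) * Nat.card W ≤ 4096 := by
  intro n
  induction n using Nat.strong_induction_on with
  | _ n ih =>
    intro W hW hn haW hbW
    set E := Ψ.ker.map (pairStab a b).subtype
    have hW1024 : Nat.card W ≤ 1024 := (Subgroup.card_le_of_le hW).trans hE.card.le
    by_cases hWE : W = E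
    · subst hWE
      have := card_le_four hC ha hγ hb hsurj hspec hE hπ (W := E ⊓ Subgroup.centralizer (E : Set G))
        fun w hw => hE.center w hw.1 fun y hy => (Subgroup.mem_centralizer_iff.1 hw.2 y hy).symm
      nlinarith
    · obtain ⟨e, heE, heW⟩ := SetLike.exists_of_lt (lt_of_le_of_ne hW hWE)
      set W1 := W ⊔ Subgroup.zpowers e
      have hlt : W < W1 := lt_of_le_of_ne le_sup_left fun h => heW (by
        rw [h]; exact le_sup_right (α := Subgroup G) (Subgroup.mem_zpowers e))
      have h2 := two_mul_card_le hlt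
      have h4 := four_le_card hC ha hγ hb hsurj hspec hE hπ haW hbW
      have hn0 : n ≠ 0 := fun h0 => hWE (Subgroup.eq_of_le_of_card_ge hW (by rw [hE.card]; omega))
      have hih := ih (n - 1) (by omega) W1 (sup_le hW (Subgroup.zpowers_le.2 heE)) (by omega)
        (le_sup_left (α := Subgroup G) haW) (le_sup_left (α := Subgroup G) hbW)
      have hhalf := card_le_two_mul (C := E ⊓ Subgroup.centralizer (W : Set G)) (x := e) (j := a * b)
        fun g hg => conj_cases hC ha hγ hb hsurj hspec hE hg.1 heE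
      have hle : E ⊓ Subgroup.centralizer (W : Set G) ⊓ Subgroup.centralizer {e} ≤
          E ⊓ Subgroup.centralizer (W1 : Set G) := by
        refine le_inf (inf_le_left.trans inf_le_left) ?_
        rw [Subgroup.le_centralizer_iff]
        refine sup_le ?_ (Subgroup.zpowers_le.2 ?_)
        · rw [Subgroup.le_centralizer_iff]; exact inf_le_left.trans inf_le_right
        · rw [Subgroup.mem_centralizer_iff]
          intro y hy
          exact Subgroup.mem_centralizer_singleton_iff.1 hy.2
      have h3 := Subgroup.card_le_of_le hle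
      nlinarith

/-- The lower bound for centralisers in the kernel. -/
theorem cent_lower {W : Subgroup G} (hW : W ≤ Ψ.ker.map (pairStab a b).subtype) (haW : a ∈ W) (hbW : b ∈ W) :
    4096 ≤ Nat.card W *
      Nat.card (Ψ.ker.map (pairStab a b).subtype ⊓ Subgroup.centralizer (W : Set G) : Subgroup G) := by
  classical
  set E := Ψ.ker.map (pairStab a b).subtype
  have key : ∀ s : Finset G, (s : Set G) ⊆ W → ∃ M : Subgroup G, (a ∈ M ∧ b ∈ M) ∧ (s : Set G) ⊆ M ∧ M ≤ W ∧
      4096 ≤ Nat.card M * Nat.card (E ⊓ Subgroup.centralizer (M : Set G) : Subgroup G) := by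
    intro s
    induction s using Finset.induction with
    | empty =>
      intro _
      refine ⟨Subgroup.closure {a, b}, ⟨Subgroup.subset_closure (Or.inl rfl), Subgroup.subset_closure (Or.inr rfl)⟩,
        by simp, (Subgroup.closure_le _).2 (by rintro x (rfl | rfl) <;> assumption), ?_⟩
      have hEC : E ⊓ Subgroup.centralizer ((Subgroup.closure {a, b} : Subgroup G) : Set G) = E := by
        rw [Subgroup.centralizer_closure]
        refine inf_eq_left.2 fun g hg => Subgroup.mem_centralizer_iff.2 ?_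
        rintro y (rfl | rfl)
        · exact (mul_inv_eq_iff_eq_mul.1 (hE.le_fix g hg).1).symm
        · exact (mul_inv_eq_iff_eq_mul.1 (hE.le_fix g hg).2).symm
      rw [hEC, hE.card]
      have h4 := four_le_card hC ha hγ hb hsurj hspec hE hπ (W := Subgroup.closure {a, b})
        (Subgroup.subset_closure (Or.inl rfl)) (Subgroup.subset_closure (Or.inr rfl))
      omega
    | @insert e s hes ih =>
      intro hs
      rw [Finset.coe_insert, Set.insert_subset_iff] at hs
      obtain ⟨M, hab', hsM, hMW, hM⟩ := ih hs.2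
      by_cases heM : e ∈ M
      · exact ⟨M, hab', by rw [Finset.coe_insert, Set.insert_subset_iff]; exact ⟨heM, hsM⟩, hMW, hM⟩
      set M1 := M ⊔ Subgroup.zpowers e
      have he1 : e ∈ M1 := le_sup_right (α := Subgroup G) (Subgroup.mem_zpowers e)
      refine ⟨M1, ⟨le_sup_left (α := Subgroup G) hab'.1, le_sup_left (α := Subgroup G) hab'.2⟩, ?_,
        sup_le hMW (Subgroup.zpowers_le.2 hs.1), ?_⟩
      · rw [Finset.coe_insert, Set.insert_subset_iff]
        exact ⟨he1, fun x hx => le_sup_left (α := Subgroup G) (hsM hx)⟩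
      have h2 := two_mul_card_le (lt_of_le_of_ne le_sup_left fun h => heM (by rw [h]; exact he1) : M < M1)
      have hhalf := card_le_two_mul (C := E ⊓ Subgroup.centralizer (M : Set G)) (x := e) (j := a * b)
        fun g hg => conj_cases hC ha hγ hb hsurj hspec hE hg.1 (hW hs.1)
      have hle : E ⊓ Subgroup.centralizer (M : Set G) ⊓ Subgroup.centralizer {e} ≤
          E ⊓ Subgroup.centralizer (M1 : Set G) := by
        refine le_inf (inf_le_left.trans inf_le_left) ?_
        rw [Subgroup.le_centralizer_iff]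
        refine sup_le ?_ (Subgroup.zpowers_le.2 ?_)
        · rw [Subgroup.le_centralizer_iff]; exact inf_le_left.trans inf_le_right
        · rw [Subgroup.mem_centralizer_iff]
          intro y hy
          exact Subgroup.mem_centralizer_singleton_iff.1 hy.2
      have h3 := Subgroup.card_le_of_le hle
      nlinarith
  obtain ⟨M, -, hsM, hMW, hM⟩ := key (Set.toFinite (W : Set G)).toFinset (by simp)
  rwa [le_antisymm hMW fun x hx => hsM (by simpa using hx)] at hM

/-- A small invariant subgroup consists of the pair. -/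
theorem small_invariant {W : Subgroup G} (hW : W ≤ Ψ.ker.map (pairStab a b).subtype) (haW : a ∈ W) (hbW : b ∈ W)
    (hinv : ∀ g ∈ pairStab a b, ∀ w ∈ W, g * w * g⁻¹ ∈ W) (hsm : Nat.card W ≤ 128) :
    ∀ w ∈ W, w = 1 ∨ w = a ∨ w = b ∨ w = a * b := by
  classical
  have hD := hC.tt
  obtain ⟨hbD, hba, hab⟩ := b_mem hC ha hγ hb
  set E := Ψ.ker.map (pairStab a b).subtype
  set V : Subgroup G := Subgroup.closure {a, b}
  have haV : a ∈ V := Subgroup.subset_closure (Or.inl rfl)
  have hbV : b ∈ V := Subgroup.subset_closure (Or.inr rfl)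
  have hVc : ∀ v ∈ V, ∀ g ∈ E, g * v * g⁻¹ = v := by
    intro v hv g hg
    induction hv using Subgroup.closure_induction with
    | mem x hx => rcases hx with rfl | rfl; exacts [(hE.le_fix g hg).1, (hE.le_fix g hg).2]
    | one => group
    | mul x y _ _ ex ey => rw [show g * (x * y) * g⁻¹ = g * x * g⁻¹ * (g * y * g⁻¹) by group, ex, ey]
    | inv x _ ex => rw [show g * x⁻¹ * g⁻¹ = (g * x * g⁻¹)⁻¹ by group, ex]
  have hVP : ∀ g ∈ (pairStab a b), ∀ v ∈ V, g * v * g⁻¹ ∈ V := by
    intro g hg v hv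
    induction hv using Subgroup.closure_induction with
    | mem x hx =>
      rcases hg with ⟨h1, h2⟩ | ⟨h1, h2⟩ <;> rcases hx with rfl | rfl <;> simp only [h1, h2] <;> assumption
    | one => simp
    | mul x y _ _ ex ey => rw [show g * (x * y) * g⁻¹ = g * x * g⁻¹ * (g * y * g⁻¹) by group]; exact mul_mem ex ey
    | inv x _ ex => rw [show g * x⁻¹ * g⁻¹ = (g * x * g⁻¹)⁻¹ by group]; exact inv_mem ex
  have hjV : a * b ∈ V := mul_mem haV hbV
  set V' := V.subgroupOf W
  haveI : V'.Normal := ⟨fun x hx g => by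
    rw [Subgroup.mem_subgroupOf] at hx ⊢
    rw [Subgroup.coe_mul, Subgroup.coe_mul, Subgroup.coe_inv, hVc _ hx _ (hW g.2)]
    exact hx⟩
  -- the action on the quotient
  let fW : (pairStab a b) →* MulAut W :=
    (Subgroup.normalizerMonoidHom W).comp (Subgroup.inclusion fun g hg =>
      Subgroup.mem_normalizer_iff.2 fun w => ⟨hinv g hg w, fun h => by
        simpa [mul_assoc] using hinv g⁻¹ (inv_mem hg) _ h⟩)
  have hfW : ∀ (g : (pairStab a b)) (w : W), ((fW g w : W) : G) = g * w * (g : G)⁻¹ := fun g w => rfl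
  have hmapV : ∀ g : (pairStab a b), V'.map ((fW g : W ≃* W) : W →* W) = V' := fun g => by
    refine Subgroup.eq_of_le_of_card_ge ?_ ?_
    · rintro _ ⟨w, hw, rfl⟩
      exact hVP g g.2 _ hw
    · exact (Nat.card_congr (V'.equivMapOfInjective _ (fW g).injective).toEquiv).le
  let ρ : (pairStab a b) →* MulAut (W ⧸ V') :=
    { toFun := fun g => QuotientGroup.congr V' V' (fW g) (hmapV g)
      map_one' := by
        refine MulEquiv.ext fun q => ?_
        obtain ⟨w, rfl⟩ := QuotientGroup.mk_surjective q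
        show QuotientGroup.congr V' V' (fW 1) (hmapV 1) (QuotientGroup.mk w) = _
        rw [QuotientGroup.congr_mk, map_one]
        rfl
      map_mul' := fun g h => by
        refine MulEquiv.ext fun q => ?_
        obtain ⟨w, rfl⟩ := QuotientGroup.mk_surjective q
        show QuotientGroup.congr V' V' (fW (g * h)) (hmapV (g * h)) (QuotientGroup.mk w) =
          QuotientGroup.congr V' V' (fW g) (hmapV g) (QuotientGroup.congr V' V' (fW h) (hmapV h) (QuotientGroup.mk w))
        rw [QuotientGroup.congr_mk, QuotientGroup.congr_mk, QuotientGroup.congr_mk, map_mul]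
        rfl }
  have hker : ∀ g : (pairStab a b), g ∈ ρ.ker ↔ ∀ w ∈ W, w⁻¹ * ((g : G) * w * (g : G)⁻¹) ∈ V := by
    intro g
    rw [MonoidHom.mem_ker]
    constructor
    · intro h w hw
      have h1 : ρ g (QuotientGroup.mk ⟨w, hw⟩) = QuotientGroup.mk ⟨w, hw⟩ := by rw [h]; rfl
      change QuotientGroup.congr V' V' (fW g) (hmapV g) (QuotientGroup.mk ⟨w, hw⟩) = _ at h1
      rw [QuotientGroup.congr_mk, eq_comm, QuotientGroup.eq] at h1
      exact h1
    · intro h
      refine MulEquiv.ext fun q => ?_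
      obtain ⟨⟨w, hw⟩, rfl⟩ := QuotientGroup.mk_surjective q
      show QuotientGroup.congr V' V' (fW g) (hmapV g) (QuotientGroup.mk _) = _
      rw [QuotientGroup.congr_mk]
      show QuotientGroup.mk (fW g ⟨w, hw⟩) = QuotientGroup.mk (⟨w, hw⟩ : W)
      exact (QuotientGroup.eq.2 (show (⟨w, hw⟩ : W)⁻¹ * fW g ⟨w, hw⟩ ∈ V' from h w hw)).symm
  have hEker : Ψ.ker ≤ ρ.ker := fun g hg => (hker g).2 fun w hw => by
    rcases conj_cases hC ha hγ hb hsurj hspec hE (g := (g : G)) ⟨g, hg, rfl⟩ (hW hw) with e | e <;> rw [e]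
    · rw [inv_mul_cancel]; exact one_mem _
    · rw [inv_mul_cancel_left]; exact hjV
  have hN : (ρ.ker.map Ψ).Normal := Subgroup.Normal.map inferInstance Ψ hsurj
  have hgen : ∀ p, (hp : isR p) → (⟨γ p, gen_mem hC ha hγ hb hp⟩ : (pairStab a b)) ∈ ρ.ker := by
    intro p hp
    by_cases hbot : ρ.ker.map Ψ = ⊥
    · exfalso
      have hle : ρ.ker = Ψ.ker := le_antisymm ((Subgroup.map_eq_bot_iff _).1 hbot) hEker
      have hpow : ∀ q : W ⧸ V', q * q = 1 := fun q => by
        obtain ⟨⟨w, hw⟩, rfl⟩ := QuotientGroup.mk_surjective q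
        rw [← QuotientGroup.mk_mul, QuotientGroup.eq_one_iff, Subgroup.mem_subgroupOf, Subgroup.coe_mul]
        rcases hE.squares w (hW hw) with e | e <;> rw [e]
        exacts [one_mem _, hjV]
      letI : CommGroup (W ⧸ V') := { (inferInstance : Group (W ⧸ V')) with
        mul_comm := fun x y => by
          calc x * y = (x * y)⁻¹ := (inv_eq_of_mul_eq_one_right (hpow _)).symm
            _ = y⁻¹ * x⁻¹ := mul_inv_rev x y
            _ = y * x := by rw [inv_eq_of_mul_eq_one_right (hpow x), inv_eq_of_mul_eq_one_right (hpow y)] }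
      haveI : Fact (Nat.Prime 2) := ⟨Nat.prime_two⟩
      have h2 : ∀ q : W ⧸ V', q ^ 2 = 1 := fun q => by rw [pow_two]; exact hpow q
      obtain ⟨n, hn⟩ := IsPGroup.iff_card.1 (fun q => ⟨1, by simpa using h2 q⟩ : IsPGroup 2 (W ⧸ V'))
      have hq : Nat.card (W ⧸ V') ≤ 32 := by
        have h := Subgroup.card_eq_card_quotient_mul_card_subgroup V'
        have hV4 : 4 ≤ Nat.card V' := by
          have hVW : V ≤ W := (Subgroup.closure_le _).2 (by rintro x (rfl | rfl) <;> assumption)
          rw [Nat.card_congr (Subgroup.subgroupOfEquivOfLe hVW).toEquiv]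
          exact four_le_card hC ha hγ hb hsurj hspec hE hπ haV hbV
        nlinarith
      have hn5 : n ≤ 5 := by
        rw [hn] at hq
        exact (Nat.pow_le_pow_iff_right (le_refl 2)).1 (hq.trans (by norm_num : 32 ≤ 2 ^ 5))
      have hr : Nat.card ρ.range ∣ Nat.card (GL (Fin n) (ZMod 2)) :=
        (Subgroup.card_subgroup_dvd_card _).trans (card_mulAut_dvd_GL h2 hn)
      refine not_81_dvd_GL hn5 (dvd_trans ?_ hr)
      have h := Subgroup.card_eq_card_quotient_mul_card_subgroup ρ.ker
      rw [Nat.card_congr (QuotientGroup.quotientKerEquivRange ρ).toEquiv] at h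
      have h' := Subgroup.card_eq_card_quotient_mul_card_subgroup Ψ.ker
      rw [Nat.card_congr (QuotientGroup.quotientKerEquivOfSurjective Ψ hsurj).toEquiv, card_autGraph, ← hle] at h'
      rw [h'] at h
      rw [← Nat.eq_of_mul_eq_mul_right Nat.card_pos h]
      norm_num
    · obtain ⟨n, hn, en⟩ := even_mem_normal hN hbot hπ (gen_even hC ha hγ hb hspec hp)
      have : n⁻¹ * ⟨γ p, gen_mem hC ha hγ hb hp⟩ ∈ ρ.ker := hEker (by
        rw [MonoidHom.mem_ker, map_mul, map_inv, en, inv_mul_cancel])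
      simpa using mul_mem hn this
  intro w hw
  refine eq_four_of_comm hC ha hγ hb hsurj hspec hE (hW hw) fun p hp => ?_
  obtain ⟨pa, pb, pnb⟩ := isR_commute hC ha hγ hb hp
  have hpD := (hγ.mem p hp.1).1
  have hv := (hker _).1 (hgen p hp) w hw
  simp only at hv
  set q := w⁻¹ * γ p * w with hq
  have hqD : q ∈ D := by simpa [hq] using conj_mem hD w⁻¹ hpD
  have hqp : q * γ p ∈ V := by
    rw [hq, show w⁻¹ * γ p * w * γ p = w⁻¹ * (γ p * w * γ p) by group]
    rwa [inv_eq hD hpD] at hv
  have hvv : ∀ v ∈ V, v * v = 1 ∧ (v = 1 ∨ v = a ∨ v = b ∨ v = a * b) := by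
    intro v hv
    have hvE : v ∈ E := (Subgroup.closure_le (K := E)).2 (by
      rintro x (rfl | rfl)
      exacts [hE.pair.1, hE.pair.2]) hv
    have h4 := hE.center v hvE fun y hy => (mul_inv_eq_iff_eq_mul.1 (hVc v hv y hy)).symm
    refine ⟨?_, h4⟩
    rcases h4 with e | e | e | e <;> rw [e]
    · exact one_mul 1
    · exact sq hD ha
    · exact sq hD hbD
    · rw [show a * b * (a * b) = a * (b * a) * b by group, ← hab.eq, ← mul_assoc, sq hD ha, one_mul, sq hD hbD]
  obtain ⟨hsq, h4⟩ := hvv _ hqp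
  have hc : Commute q (γ p) := by
    have h := inv_eq_of_mul_eq_one_right hsq
    rw [mul_inv_rev, inv_eq hD hpD, inv_eq hD hqD] at h
    exact h.symm
  have heq : q = γ p := by
    by_contra hne
    rcases h4 with e | e | e | e
    · exact hne (by rw [eq_inv_of_mul_eq_one_left e, inv_eq hD hpD])
    · exact no_pair hC hqD hpD ha hne hc e
    · exact no_pair hC hqD hpD hbD hne hc e
    · rcases pair_unique hD hC.tf hqD hpD ha hbD hne hc hab e with ⟨-, h⟩ | ⟨h, -⟩
      · exact pnb h.symm
      · exact (hγ.mem p hp.1).2.1 h.symm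
  show w * γ p = γ p * w
  conv_lhs => rw [← heq, hq]
  group

/-- The only invariant subgroups between the pair and the kernel are the two ends. -/
theorem invariant_cases {W : Subgroup G} (hW : W ≤ Ψ.ker.map (pairStab a b).subtype) (haW : a ∈ W) (hbW : b ∈ W)
    (hinv : ∀ g ∈ pairStab a b, ∀ w ∈ W, g * w * g⁻¹ ∈ W) :
    (∀ w ∈ W, w = 1 ∨ w = a ∨ w = b ∨ w = a * b) ∨ W = Ψ.ker.map (pairStab a b).subtype := by
  set E := Ψ.ker.map (pairStab a b).subtype
  by_cases hsm : Nat.card W ≤ 128
  · exact Or.inl (small_invariant hC ha hγ hb hsurj hspec hE hπ hW haW hbW hinv hsm)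
  refine Or.inr (Subgroup.eq_of_le_of_card_ge hW ?_)
  set C := E ⊓ Subgroup.centralizer (W : Set G)
  have hup := cent_upper hC ha hγ hb hsurj hspec hE hπ 1024 W hW (by omega) haW hbW
  have hlo := cent_lower hC ha hγ hb hsurj hspec hE hπ hW haW hbW
  have hC128 : Nat.card C ≤ 128 := by nlinarith
  have hVC : ∀ v, v = a ∨ v = b → v ∈ C := by
    intro v hv
    have hfix : ∀ g ∈ E, g * v = v * g := fun g hg => by
      rcases hv with rfl | rfl
      exacts [mul_inv_eq_iff_eq_mul.1 (hE.le_fix g hg).1, mul_inv_eq_iff_eq_mul.1 (hE.le_fix g hg).2]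
    refine ⟨?_, Subgroup.mem_centralizer_iff.2 fun w hw => hfix w (hW hw)⟩
    rcases hv with rfl | rfl
    exacts [hE.pair.1, hE.pair.2]
  have h4 := card_le_four hC ha hγ hb hsurj hspec hE hπ
    (small_invariant hC ha hγ hb hsurj hspec hE hπ (W := C) inf_le_left (hVC a (Or.inl rfl)) (hVC b (Or.inr rfl))
      (fun g hg c hc => ⟨conj_mem_ker hC ha hγ hb hsurj hspec hE hg hc.1, Subgroup.mem_centralizer_iff.2 fun w hw => by
        have h' := Subgroup.mem_centralizer_iff.1 hc.2 _ (hinv g⁻¹ (inv_mem hg) w hw)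
        calc w * (g * c * g⁻¹) = g * (g⁻¹ * w * g⁻¹⁻¹ * c) * g⁻¹ := by group
          _ = g * (c * (g⁻¹ * w * g⁻¹⁻¹)) * g⁻¹ := by rw [h']
          _ = g * c * g⁻¹ * w := by group⟩) hC128)
  rw [hE.card]
  nlinarith

end Cfsg.Agent.TT95.Out22
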