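import Cfsg.Agent.TT95.Out22.GraphFacts

/-!
Type M(22): the kernel of the key action modulo the pair is an irreducible module for the stabiliser.
-/

set_option autoImplicit false
set_option linter.unusedSectionVars false
set_option linter.style.haveILetI false

namespace Cfsg.Agent.TT95.Out22

open Cfsg.Agent.TT95 Cfsg.Agent.TT95.U6 Cfsg.Agent.TT95.K45G

section General

variable {G : Type*} [Group G] [Finite G]

/-- Centralising one more element at most halves, when conjugation takes two values. -/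
theorem card_le_two_mul {C : Subgroup G} {x j : G}
    (h : ∀ g ∈ C, g * x * g⁻¹ = x ∨ g * x * g⁻¹ = x * j) :
    Nat.card C ≤ 2 * Nat.card (C ⊓ Subgroup.centralizer {x} : Subgroup G) := by
  classical
  have hc := card_eq_mul_of_fibres (fun g : C => (g : G) * x * (g : G)⁻¹)
    ((Subgroup.centralizer {x}).subgroupOf C)
    (fun g g' => by rw [conj_eq_conj_iff, Subgroup.mem_subgroupOf, Subgroup.coe_mul, Subgroup.coe_inv])
  have hr : (Set.range fun g : C => (g : G) * x * (g : G)⁻¹).ncard ≤ 2 := by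
    refine le_trans (Set.ncard_le_ncard (t := {x, x * j}) ?_ (Set.toFinite _)) ?_
    · rintro _ ⟨g, rfl⟩
      rcases h g g.2 with e | e
      · exact Or.inl e
      · exact Or.inr e
    · exact (Set.ncard_insert_le _ _).trans (by rw [Set.ncard_singleton])
  rw [← Subgroup.inf_subgroupOf_right, inf_comm,
    Nat.card_congr (Subgroup.subgroupOfEquivOfLe (inf_le_left : C ⊓ Subgroup.centralizer {x} ≤ C)).toEquiv] at hc
  rw [hc]
  exact Nat.mul_le_mul_right _ hr

theorem two_mul_card_le {C C' : Subgroup G} (h : C < C') : 2 * Nat.card C ≤ Nat.card C' := by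
  obtain ⟨k, hk⟩ := Subgroup.card_dvd_of_le h.le
  rcases k with _ | _ | k
  · rw [mul_zero] at hk; exact absurd hk Nat.card_pos.ne'
  · rw [zero_add, mul_one] at hk
    exact absurd (Subgroup.eq_of_le_of_card_ge h.le hk.le) h.ne
  · rw [hk]; nlinarith

end General

variable {G : Type*} [Group G] [Finite G] {D : Set G} (hC : Cfg22 D) [Gen D] {a b : G} (ha : a ∈ D)
  {γ : ℕ → G} (hγ : IsLocal D a γ) (hb : γ e1 = b) {Ψ : pairStab a b →* autGraph}
  (hsurj : Function.Surjective Ψ)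
  (hspec : ∀ (g : pairStab a b) (i : Fin 45) (y : ℕ), isR y → γ y = (g : G) * γ (kv i) * (g : G)⁻¹ →
    kv (((Ψ g).1 i : Fin 45) : ℕ) = key y)
  (hE : PairCore a b (Ψ.ker.map (pairStab a b).subtype))

include hC ha hγ hb hsurj hspec hE

theorem conj_cases {g x : G} (hg : g ∈ Ψ.ker.map (pairStab a b).subtype)
    (hx : x ∈ Ψ.ker.map (pairStab a b).subtype) : g * x * g⁻¹ = x ∨ g * x * g⁻¹ = x * (a * b) := by
  rcases hE.comm g hg x hx with e | e
  · exact Or.inl (mul_inv_eq_one.1 e)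
  · refine Or.inr ?_
    rw [mul_inv_eq_iff_eq_mul.1 e]
    have hgx := Subgroup.map_subtype_le _ hx
    rw [pairStab_eq hC ha (b_mem hC ha hγ hb).1 (b_mem hC ha hγ hb).2.1.symm (b_mem hC ha hγ hb).2.2,
      Subgroup.mem_centralizer_singleton_iff] at hgx
    exact hgx.symm

theorem conj_mem_ker {g : G} (hg : g ∈ pairStab a b) {x : G} (hx : x ∈ Ψ.ker.map (pairStab a b).subtype) :
    g * x * g⁻¹ ∈ Ψ.ker.map (pairStab a b).subtype := by
  obtain ⟨z, hz, rfl⟩ := hx
  exact ⟨_, (MonoidHom.normal_ker Ψ).conj_mem z hz ⟨g, hg⟩, rfl⟩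

theorem pcore_eq : Cfsg.pCore 2 (pairStab a b) = Ψ.ker := by
  haveI : Fact (Nat.Prime 2) := ⟨Nat.prime_two⟩
  refine le_antisymm (sSup_le fun N hN => ?_) (Thompson.le_pCore inferInstance ?_)
  · haveI := hN.1
    have h := autGraph_nilpotent_normal (N := N.map Ψ) (Subgroup.Normal.map inferInstance Ψ hsurj)
      (hN.2.map Ψ).isNilpotent
    exact (Subgroup.map_eq_bot_iff _).1 h
  · refine IsPGroup.of_card (n := 10) ?_
    rw [Nat.card_congr (Ψ.ker.equivMapOfInjective _ (pairStab a b).subtype_injective).toEquiv, hE.card]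
    norm_num

/-- Only the pair commutes with all transvections through it. -/
theorem eq_four_of_comm {x : G} (hx : x ∈ Ψ.ker.map (pairStab a b).subtype)
    (h : ∀ p, isR p → Commute x (γ p)) : x = 1 ∨ x = a ∨ x = b ∨ x = a * b := by
  classical
  have hD := hC.tt
  obtain ⟨hbD, hba, hab⟩ := b_mem hC ha hγ hb
  set P : Fin 8 → ℕ × ℕ := fun i => basePairs.getD i (0, 0) with hP
  set u : Fin 8 → G := fun i => γ (P i).1 * γ (P i).2 with hu
  have hpc : ∀ i : Fin 8, isR (P i).1 ∧ isR (P i).2 ∧ key (P i).1 = key (P i).2 ∧ (P i).1 ≠ (P i).2 ∧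
      ∀ j : Fin 8,
        (K45G.flip (P i) (P j) = (decide ((i : ℕ) / 2 = (j : ℕ) / 2) && decide ((i : ℕ) ≠ j))) ∧
        (K45G.flip (P i) (P j) = true →
          let p := tv (P j).1 (tv (P j).2 (P i).1)
          let q := tv (P j).1 (tv (P j).2 (P i).2)
          key p = key (P i).1 ∧ key q = key (P i).1 ∧ p ≠ q ∧ p ≠ (P i).1 ∧ p ≠ (P i).2 ∧ q ≠ (P i).1 ∧ q ≠ (P i).2) := by
    intro i
    have h := List.all_eq_true.1 pair_check i (List.mem_range.2 i.2)
    simp only [Bool.and_eq_true, List.all_eq_true, beq_iff_eq, bne_iff_ne, inRes_iff] at h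
    obtain ⟨⟨⟨⟨⟨h1, h2⟩, h3⟩, h4⟩, h5⟩, h6⟩ := h
    refine ⟨h1, h2, h3, h4, fun j => ?_⟩
    have h7 := h6 j (List.mem_range.2 j.2)
    simp only [Bool.or_eq_true, Bool.and_eq_true, Bool.not_eq_true', beq_iff_eq, bne_iff_ne] at h7
    refine ⟨?_, fun hf => ?_⟩
    · refine h7.1.trans ?_
      rw [Bool.eq_iff_iff]
      simp
    · obtain ⟨⟨⟨⟨⟨⟨k1, k2⟩, k3⟩, k4⟩, k5⟩, k6⟩, k7⟩ := h7.2.resolve_left (by rw [hP] at hf; simp only [hf]; simp)
      exact ⟨k1, k2, k3, k4, k5, k6, k7⟩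
  have huE : ∀ i, u i ∈ Ψ.ker.map (pairStab a b).subtype := fun i =>
    mul_mem_ker hC ha hγ hb hspec (hpc i).1 (hpc i).2.1 (hpc i).2.2.1
  have hfib : ∀ i, (P i).1 ∈ fibre (key (P i).1) ∧ (P i).2 ∈ fibre (key (P i).1) := fun i =>
    ⟨mem_fibre (hpc i).1, by rw [(hpc i).2.2.1]; exact mem_fibre (hpc i).2.1⟩
  have cP : ∀ i, Commute (γ (P i).1) (γ (P i).2) := fun i =>
    (hγ.comm _ _ (hpc i).1.1 (hpc i).2.1.1).2 (fibre_orth (hfib i).1 (hfib i).2)
  have hjone : a * b ≠ 1 := fun h => hba (by rw [eq_inv_of_mul_eq_one_left h, inv_eq hD hbD])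
  have hconj2 : ∀ (i : Fin 8) (x : ℕ), isPt x = true →
      u i * γ x * (u i)⁻¹ = γ (tv (P i).1 (tv (P i).2 x)) := by
    intro i x hx
    rw [hu, show γ (P i).1 * γ (P i).2 * γ x * (γ (P i).1 * γ (P i).2)⁻¹ =
      γ (P i).1 * (γ (P i).2 * γ x * (γ (P i).2)⁻¹) * (γ (P i).1)⁻¹ by group,
      hγ.conj _ _ (hpc i).2.1.1 hx, hγ.conj _ _ (hpc i).1.1 (hγ.isPt_tv _ _ (hpc i).2.1.1 hx)]
  have husq : ∀ i, u i * u i = 1 := fun i => by
    rw [hu]
    show γ (P i).1 * γ (P i).2 * (γ (P i).1 * γ (P i).2) = 1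
    rw [show γ (P i).1 * γ (P i).2 * (γ (P i).1 * γ (P i).2) =
      γ (P i).1 * (γ (P i).2 * γ (P i).1) * γ (P i).2 by group, ← (cP i).eq, ← mul_assoc,
      sq hD (hγ.mem _ (hpc i).1.1).1, one_mul, sq hD (hγ.mem _ (hpc i).2.1.1).1]
  have hconjR : ∀ (i : Fin 8) (x : ℕ), isR x → isR (tv (P i).1 (tv (P i).2 x)) := by
    intro i x hx
    obtain ⟨y, hy, ey⟩ := pair_move hC ha hγ hb
      (mul_mem (gen_mem hC ha hγ hb (hpc i).1) (gen_mem hC ha hγ hb (hpc i).2.1)) hx
    have := hγ.inj _ _ hy.1 (hγ.isPt_tv _ _ (hpc i).1.1 (hγ.isPt_tv _ _ (hpc i).2.1.1 hx.1))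
      (ey.trans (hconj2 i x hx.1))
    rwa [← this]
  have hcomm : ∀ i k, Commute (u k) (u i) ↔ ¬ K45G.flip (P i) (P k) = true := by
    intro i k
    set p := tv (P k).1 (tv (P k).2 (P i).1) with hp
    set q := tv (P k).1 (tv (P k).2 (P i).2) with hq
    have e0 : u k * u i * (u k)⁻¹ = γ p * γ q := by
      rw [hp, hq, ← hconj2 k _ (hpc i).1.1, ← hconj2 k _ (hpc i).2.1.1, hu]; group
    show u k * u i = u i * u k ↔ _
    rw [← mul_inv_eq_iff_eq_mul, e0]
    by_cases hf : K45G.flip (P i) (P k) = true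
    · simp only [hf, not_true_eq_false, iff_false]
      intro e
      obtain ⟨k1, k2, k3, k4, k5, k6, k7⟩ := ((hpc i).2.2.2.2 k).2 hf
      have mp : p ∈ fibre (key (P i).1) := k1 ▸ mem_fibre (hconjR k _ (hpc i).1)
      have mq : q ∈ fibre (key (P i).1) := k2 ▸ mem_fibre (hconjR k _ (hpc i).2.1)
      have h4 := fibre_four_prod hC ha hγ hb (hfib i).1 (hfib i).2 mp mq (hpc i).2.2.2.1 k4.symm k6.symm
        k5.symm k7.symm k3
      rw [mul_assoc (γ (P i).1 * γ (P i).2), e] at h4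
      exact hjone (h4.symm.trans (husq i))
    · refine iff_of_true ?_ hf
      simp only [K45G.flip, Bool.not_eq_true', Bool.not_eq_false, Bool.or_eq_true, Bool.and_eq_true,
        beq_iff_eq] at hf
      rcases hf with ⟨h1, h2⟩ | ⟨h1, h2⟩
      · rw [hp, hq, h1, h2]
      · rw [hp, hq, h1, h2]; exact (cP i).eq.symm
  -- the centralisers of the first n of them
  have hstep : ∀ n ≤ 8, ∃ C : Subgroup G, C ≤ Ψ.ker.map (pairStab a b).subtype ∧
      (∀ z, z ∈ C ↔ z ∈ Ψ.ker.map (pairStab a b).subtype ∧ ∀ i : Fin 8, (i : ℕ) < n → Commute z (u i)) ∧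
      2 ^ n * Nat.card C ≤ 1024 := by
    intro n hn
    induction n with
    | zero => exact ⟨_, le_rfl, fun z => ⟨fun hz => ⟨hz, fun i hi => absurd hi (Nat.not_lt_zero _)⟩, And.left⟩,
        by rw [hE.card]; norm_num⟩
    | succ n ih =>
      obtain ⟨C, hCle, hCm, hCc⟩ := ih (by omega)
      set i0 : Fin 8 := ⟨n, by omega⟩ with hi0
      refine ⟨C ⊓ Subgroup.centralizer {u i0}, inf_le_left.trans hCle, fun z => ?_, ?_⟩
      · rw [Subgroup.mem_inf, hCm, Subgroup.mem_centralizer_singleton_iff]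
        refine ⟨fun ⟨⟨h1, h2⟩, h3⟩ => ⟨h1, fun i hi => ?_⟩,
          fun ⟨h1, h2⟩ => ⟨⟨h1, fun i hi => h2 i (by omega)⟩, (h2 i0 (by simp [hi0])).eq⟩⟩
        rcases Nat.lt_succ_iff_lt_or_eq.1 hi with hi | hi
        · exact h2 i hi
        · rw [show i = i0 from Fin.ext hi]; exact h3
      · let dual : Fin 8 := ⟨if n % 2 = 0 then n + 1 else n - 1, by split_ifs <;> omega⟩
        have hkd : ∀ i k : Fin 8, (decide ((k : ℕ) / 2 = (if (i : ℕ) % 2 = 0 then (i : ℕ) + 1 else (i : ℕ) - 1) / 2) &&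
            decide ((k : ℕ) ≠ if (i : ℕ) % 2 = 0 then (i : ℕ) + 1 else (i : ℕ) - 1)) = decide (k = i) := by decide
        have hfl : ∀ k : Fin 8, K45G.flip (P k) (P dual) = decide (k = i0) := fun k =>
          ((hpc k).2.2.2.2 dual).1.trans (hkd i0 k)
        have hdC : u dual ∈ C := (hCm _).2 ⟨huE _, fun i hi => (hcomm i dual).2 (by
          rw [hfl]
          simp only [decide_eq_true_eq]
          intro e; rw [e] at hi; simp [hi0] at hi)⟩
        have hnd : u dual ∉ Subgroup.centralizer {u i0} := fun hm =>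
          (hcomm i0 dual).1 (Subgroup.mem_centralizer_singleton_iff.1 hm) (by rw [hfl]; simp)
        have hlt : C ⊓ Subgroup.centralizer {u i0} < C :=
          lt_of_le_of_ne inf_le_left fun e => hnd ((e.ge hdC).2)
        have := two_mul_card_le hlt
        rw [pow_succ, mul_assoc]
        exact le_trans (Nat.mul_le_mul_left _ this) hCc
  obtain ⟨C, -, hCm, hCc⟩ := hstep 8 le_rfl
  have h4 : ({1, a, b, a * b} : Set G) ⊆ C := by
    have hcu : ∀ i, Commute a (u i) ∧ Commute b (u i) := fun i => by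
      obtain ⟨c1, c2, -⟩ := isR_commute hC ha hγ hb (hpc i).1
      obtain ⟨d1, d2, -⟩ := isR_commute hC ha hγ hb (hpc i).2.1
      exact ⟨c1.symm.mul_right d1.symm, c2.symm.mul_right d2.symm⟩
    intro z hz
    simp only [Set.mem_insert_iff, Set.mem_singleton_iff] at hz
    refine (hCm z).2 ?_
    rcases hz with e | e | e | e <;> subst z
    · exact ⟨one_mem _, fun i _ => Commute.one_left _⟩
    · exact ⟨hE.pair.1, fun i _ => (hcu i).1⟩
    · exact ⟨hE.pair.2, fun i _ => (hcu i).2⟩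
    · exact ⟨mul_mem hE.pair.1 hE.pair.2, fun i _ => (hcu i).1.mul_left (hcu i).2⟩
  have hfour : ({1, a, b, a * b} : Set G).ncard = 4 := by
    have h1 : a ≠ 1 := ne_one hD ha
    have h2 : b ≠ 1 := ne_one hD hbD
    have h3 : a * b ≠ a := fun h => h2 (mul_eq_left.1 h)
    have h5 : a * b ≠ b := fun h => h1 (mul_eq_right.1 h)
    rw [Set.ncard_insert_of_notMem (by simp [h1.symm, h2.symm, Ne.symm hjone]) (Set.toFinite _),
      Set.ncard_insert_of_notMem (by simp [hba.symm, h3.symm]) (Set.toFinite _),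
      Set.ncard_pair h5.symm]
  have hxC : x ∈ C := (hCm x).2 ⟨hx, fun i _ => (h _ (hpc i).1).mul_right (h _ (hpc i).2.1)⟩
  have := (Set.eq_of_subset_of_ncard_le h4 (by
    rw [hfour, ← Nat.card_coe_set_eq, SetLike.coe_sort_coe]; omega) (Set.toFinite _)).ge hxC
  simpa using this

end Cfsg.Agent.TT95.Out22
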